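import Cfsg.Agent.USixMult.Stem
import Cfsg.Agent.Forms4.UnitarySimple
import Cfsg.Agent.Schur.CoverBound

/-!
The Schur multiplier of `PSU₆(2)` is the product of groups of orders three, two and two.
-/

set_option autoImplicit false
set_option linter.style.haveILetI false
set_option maxRecDepth 100000

namespace CfsgLib.USixMult

open Matrix CfsgLib.RepBounds.Unit
open CfsgLib.Schur.Pc (ev)
open scoped commutatorElement

universe u

variable {F : Type u} [Field F] [Fintype F]

namespace Ctx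

variable (X : Ctx F)
include X

theorem zel_mul (a b : Z2) : X.zel a * X.zel b = X.zel (a + b) := by
  refine Subtype.ext (Prod.ext (one_mul _) (Equiv.ext fun q => Prod.ext rfl ?_))
  show q.2 + b + a = q.2 + (a + b)
  abel

theorem zel_zero : X.zel 0 = 1 :=
  Subtype.ext (Prod.ext rfl (Equiv.ext fun q => Prod.ext rfl (add_zero q.2)))

theorem zel_comm (d : Z2) (g : X.cover) : g * X.zel d = X.zel d * g := by
  refine Subtype.ext (Prod.ext ((mul_one _).trans (one_mul _).symm) (Equiv.ext fun q => ?_))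
  obtain ⟨f, hf, -⟩ := g.2
  show g.1.2 (q.1, q.2 + d) = ((g.1.2 q).1, (g.1.2 q).2 + d)
  rw [hf, show g.1.2 q = _ from hf q.1 q.2]
  exact Prod.ext rfl (add_right_comm _ _ _)

theorem ker_nat_eq {g : X.cover} : g ∈ X.nat.ker ↔ ∃ d, g = X.zel d :=
  ⟨fun h => ⟨_, X.nat_eq_one h⟩, fun ⟨d, e⟩ => by rw [e, MonoidHom.mem_ker, X.nat_zel]⟩

theorem su_perfect : commutator (suG X.C (Fin 6)) = ⊤ := by
  let R : suG X.C (Fin 2 ⊕ Fin 4) →* suG X.C (Fin 6) := reindexHom X.C finSumFinEquiv
  have hR : Function.Surjective R := fun g =>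
    ⟨reindexHom X.C finSumFinEquiv.symm g, suG_ext X.C fun x => by
      rw [app_reindexHom, app_reindexHom]; simp [Function.comp_def]⟩
  rw [commutator_def, ← Subgroup.map_top_of_surjective R hR, ← Subgroup.map_commutator,
    ← commutator_def, Forms4.commutator_suG_eq_top X.C (by simp)]

theorem el_z15 : X.el (y2n 15) = X.zel (1, 0) := by
  refine X.cover_ext ?_ ?_
  · rw [el, X.nat_elt, X.nat_zel, z_codes.1]; rfl
  · rw [el, X.f0_elt, X.f0_zel, z_codes.2.1]; decide

theorem el_z16 : X.el (y2n 16) = X.zel (0, 1) := by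
  refine X.cover_ext ?_ ?_
  · rw [el, X.nat_elt, X.nat_zel, z_codes.2.2.1]; rfl
  · rw [el, X.f0_elt, X.f0_zel, z_codes.2.2.2]; decide

theorem cover_perfect : commutator X.cover = ⊤ := by
  have h2 : X.zel (0, 1) ∈ commutator X.cover := by
    have e : ev X.el [8, 5, 11] * ev X.el [4, 10] =
        X.zel (0, 1) * (ev X.el [4, 10] * ev X.el [8, 5, 11]) := by
      rw [← X.el_z16, ← Schur.Pc.ev_append, ← Schur.Pc.ev_append, ← Schur.Pc.ev_cons]
      exact X.ev_eq_of_weq com_two
    have := Subgroup.commutator_mem_commutator (Subgroup.mem_top (ev X.el [8, 5, 11]))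
      (Subgroup.mem_top (ev X.el [4, 10]))
    rw [commutatorElement_def, e, ← commutator_def] at this
    simpa [mul_assoc] using this
  have h3 : X.zel (1, 1) ∈ commutator X.cover := by
    have e : ev X.el [13, 11, 15] * ev X.el [4, 3, 5] =
        X.zel (1, 1) * (ev X.el [4, 3, 5] * ev X.el [13, 11, 15]) := by
      rw [show ((1, 1) : Z2) = (1, 0) + (0, 1) by decide, ← X.zel_mul, ← X.el_z15, ← X.el_z16,
        mul_assoc, ← Schur.Pc.ev_append, ← Schur.Pc.ev_append, ← Schur.Pc.ev_cons,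
        ← Schur.Pc.ev_cons]
      exact X.ev_eq_of_weq com_three
    have := Subgroup.commutator_mem_commutator (Subgroup.mem_top (ev X.el [13, 11, 15]))
      (Subgroup.mem_top (ev X.el [4, 3, 5]))
    rw [commutatorElement_def, e, ← commutator_def] at this
    simpa [mul_assoc] using this
  have hz : ∀ d, X.zel d ∈ commutator X.cover := by
    intro d
    have hd : d = 0 ∨ d = (0, 1) ∨ d = (1, 1) ∨ d = (0, 1) + (1, 1) := by revert d; decide
    rcases hd with rfl | rfl | rfl | rfl
    · rw [X.zel_zero]; exact one_mem _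
    · exact h2
    · exact h3
    · rw [← X.zel_mul]; exact mul_mem h2 h3
  have hm : (commutator X.cover).map X.nat = ⊤ := by
    rw [commutator_def, Subgroup.map_commutator, Subgroup.map_top_of_surjective _ X.nat_surjective,
      ← commutator_def, X.su_perfect]
  rw [eq_top_iff]
  intro g _
  obtain ⟨c, hc, e⟩ := hm.ge (Subgroup.mem_top (X.nat g))
  have hk : c⁻¹ * g ∈ X.nat.ker := by rw [MonoidHom.mem_ker, map_mul, map_inv, e, inv_mul_cancel]
  obtain ⟨d, hd⟩ := X.ker_nat_eq.1 hk
  have := mul_mem hc (hd ▸ hz d : c⁻¹ * g ∈ commutator X.cover)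
  simpa using this

theorem central_of_nat_central {c : X.cover} (hc : X.nat c ∈ Subgroup.center (suG X.C (Fin 6))) :
    c ∈ Subgroup.center X.cover := by
  have hk : ∀ g, c * g * c⁻¹ * g⁻¹ = X.zel (X.f0 (c * g * c⁻¹ * g⁻¹)) := fun g =>
    X.nat_eq_one (by
      rw [map_mul, map_mul, map_mul, map_inv, map_inv, ← Subgroup.mem_center_iff.1 hc (X.nat g)]
      group)
  let ψ : X.cover →* Multiplicative Z2 := MonoidHom.mk'
    (fun g => Multiplicative.ofAdd (X.f0 (c * g * c⁻¹ * g⁻¹))) (fun g h => by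
      rw [← ofAdd_add]
      congr 1
      rw [← X.f0_zel (X.f0 (c * g * c⁻¹ * g⁻¹) + X.f0 (c * h * c⁻¹ * h⁻¹)), ← X.zel_mul, ← hk g, ← hk h]
      congr 1
      have hz : c * h * c⁻¹ * h⁻¹ * g⁻¹ = g⁻¹ * (c * h * c⁻¹ * h⁻¹) := by
        rw [hk h]; exact (X.zel_comm _ _).symm
      calc c * (g * h) * c⁻¹ * (g * h)⁻¹ = c * g * c⁻¹ * (c * h * c⁻¹ * h⁻¹ * g⁻¹) := by group
        _ = _ := by rw [hz]; group)
  have hψ : ∀ g, ψ g = 1 := fun g =>
    Abelianization.commutator_subset_ker ψ (by rw [X.cover_perfect]; trivial)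
  rw [Subgroup.mem_center_iff]
  intro g
  have e := hk g
  rw [show X.f0 (c * g * c⁻¹ * g⁻¹) = 0 from congrArg Multiplicative.toAdd (hψ g), X.zel_zero,
    mul_inv_eq_one, mul_inv_eq_iff_eq_mul] at e
  exact e.symm

theorem app_scalar {g : suG X.C (Fin 6)} {a : F}
    (h : ∀ i : Fin 6, app X.C g (Pi.single i 1) = a • Pi.single i 1) (x : Fin 6 → F) :
    app X.C g x = a • x := by
  have hm : g.1.1 = a • (1 : Matrix (Fin 6) (Fin 6) F) := by
    ext i j
    have := congrFun (h j) i
    simpa [app, Matrix.mulVec_single_one, Matrix.one_apply, Pi.single_apply] using this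
  show g.1.1 *ᵥ x = a • x
  rw [hm, Matrix.smul_mulVec, Matrix.one_mulVec]

theorem exists_scalar {g : suG X.C (Fin 6)} (hg : g ∈ Subgroup.center (suG X.C (Fin 6))) :
    ∃ a : F, a ≠ 0 ∧ ∀ x, app X.C g x = a • x := by
  classical
  have hline : ∀ v, herm X.C v v = 0 → ∃ μ : F, app X.C g v = μ • v := by
    intro v hv
    by_cases hv0 : v = 0
    · exact ⟨0, by subst hv0; simp [app]⟩
    have hgv : herm X.C (app X.C g v) (app X.C g v) = 0 := by rw [herm_app, hv]
    have e := U62.conj_tv X.C X.hC g hv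
    rw [← Subgroup.mem_center_iff.1 hg, mul_inv_cancel_right] at e
    obtain ⟨y, hy⟩ := exists_herm_eq X.C hv0 1
    have h1 := U62.app_tv X.C X.hC hv y
    rw [e, U62.app_tv X.C X.hC hgv, hy, one_smul, add_left_cancel_iff] at h1
    have hne : herm X.C y (app X.C g v) ≠ 0 := fun h0 => hv0 (by rw [← h1, h0, zero_smul])
    exact ⟨(herm X.C y (app X.C g v))⁻¹, by
      rw [eq_comm, inv_smul_eq_iff₀ hne]; exact h1.symm⟩
  have hiso : ∀ (i j : Fin 6), i ≠ j → ∀ t : F, t ≠ 0 →
      herm X.C (Pi.single i 1 + t • Pi.single j 1) (Pi.single i 1 + t • Pi.single j 1) = 0 := by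
    intro i j hij t ht
    have h : ∀ k l : Fin 6, herm X.C (Pi.single k 1) (Pi.single l 1) = if k = l then 1 else 0 := by
      intro k l
      rw [herm, Finset.sum_eq_single k (fun m _ hm => by simp [hm]) (by simp)]
      by_cases hkl : k = l
      · subst hkl; simp
      · simp [hkl]
    simp only [herm_add_left, herm_add_right, herm_smul_left, herm_smul_right, h, if_neg hij,
      if_neg (Ne.symm hij), if_true]
    linear_combination U62.norm_eq_one X.C X.hC ht + X.two
  set G : Fin 6 → Fin 6 → F := fun i k => app X.C g (Pi.single i 1) k with hG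
  have hpair : ∀ (i j : Fin 6), i ≠ j → ∀ t : F, t ≠ 0 → ∃ μ : F, ∀ k,
      G i k + t * G j k =
        μ * ((Pi.single i 1 : Fin 6 → F) k + t * (Pi.single j 1 : Fin 6 → F) k) := by
    intro i j hij t ht
    obtain ⟨μ, hμ⟩ := hline _ (hiso i j hij t ht)
    refine ⟨μ, fun k => ?_⟩
    rw [app_add, app_smul] at hμ
    simpa using congrFun hμ k
  have hdiag : ∀ i k : Fin 6, k ≠ i → G i k = 0 := by
    intro i k hki
    obtain ⟨j, hji, hjk⟩ : ∃ j : Fin 6, j ≠ i ∧ j ≠ k := by revert i k; decide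
    obtain ⟨μ, hμ⟩ := hpair i j hji.symm 1 one_ne_zero
    obtain ⟨ν, hν⟩ := hpair i j hji.symm X.w X.w_ne.1
    have a1 := hμ k
    have a2 := hν k
    simp only [Pi.single_eq_of_ne hki, Pi.single_eq_of_ne hjk.symm, mul_zero, add_zero] at a1 a2
    have hj : (X.w - 1) * G j k = 0 := by linear_combination a2 - a1
    have hj0 := (mul_eq_zero.1 hj).resolve_left (sub_ne_zero.2 X.w_ne.2)
    linear_combination a1 - hj0
  have heq : ∀ i : Fin 6, G i i = G 0 0 := by
    intro i
    by_cases hi : i = 0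
    · rw [hi]
    obtain ⟨μ, hμ⟩ := hpair i 0 hi 1 one_ne_zero
    have a1 := hμ i
    have a2 := hμ 0
    simp only [Pi.single_eq_same, Pi.single_eq_of_ne hi, Pi.single_eq_of_ne (Ne.symm hi), mul_zero,
      add_zero, mul_one, one_mul, zero_add, hdiag 0 i hi, hdiag i 0 (Ne.symm hi)] at a1 a2
    rw [a1, a2]
  have hall : ∀ x, app X.C g x = G 0 0 • x := X.app_scalar fun i => by
    funext k
    show G i k = G 0 0 * (Pi.single i 1 : Fin 6 → F) k
    by_cases hk : k = i
    · rw [hk, heq, Pi.single_eq_same, mul_one]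
    · rw [hdiag i k hk, Pi.single_eq_of_ne hk, mul_zero]
  refine ⟨G 0 0, fun h0 => ?_, hall⟩
  have h1 : herm X.C (Pi.single 0 1 : Fin 6 → F) (Pi.single 0 1) = 0 := by
    rw [← herm_app X.C g, hall, h0, zero_smul, herm_zero_left]
  rw [herm, Finset.sum_eq_single (0 : Fin 6) (fun m _ hm => by simp [hm]) (by simp)] at h1
  simp at h1

theorem app_scal (x : Fin 6 → F) : app X.C (X.Ts (code scal).cs) x = X.w • x := by
  refine X.app_scalar (fun i => ?_) x
  have h := okScal_true
  simp only [okScal, Bool.and_eq_true, Mathieu.allBelow_iff] at h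
  rw [← X.dec_bas i, (X.app_code scal (bas_lt i.2)).1, Nat.eq_of_beq_eq_true (h.2 i i.2),
    X.dec_vsmul (by norm_num) (bas_lt i.2), X.fv_two]

theorem scal_pow : X.el scal ^ 3 = 1 := by
  have h := okScal_true
  simp only [okScal, okPrime, Bool.and_eq_true] at h
  have e := X.ev_eq_of_weq h.1.1
  rwa [Schur.Pc.ev_replicate, Schur.Pc.ev_nil] at e

theorem nat_scal_central : X.nat (X.el scal) ∈ Subgroup.center (suG X.C (Fin 6)) := by
  rw [el, X.nat_elt, Subgroup.mem_center_iff]
  intro g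
  refine suG_ext X.C fun x => ?_
  rw [app_mul, app_mul, X.app_scal, X.app_scal, app_smul]

/-- The four group and the scalars, inside the cover. -/
noncomputable def kerHom : Multiplicative (ZMod 3 × Z2) →* X.cover :=
  MonoidHom.mk' (fun v => X.el scal ^ (Multiplicative.toAdd v).1.val *
    X.zel (Multiplicative.toAdd v).2) fun v w => by
    have h3 : ∀ a b : ZMod 3, X.el scal ^ (a + b).val = X.el scal ^ a.val * X.el scal ^ b.val := by
      intro a b
      rw [← pow_add, ZMod.val_add]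
      exact (pow_eq_pow_mod (a.val + b.val) X.scal_pow).symm
    simp only [toAdd_mul, Prod.fst_add, Prod.snd_add, h3, ← X.zel_mul]
    exact Commute.mul_mul_mul_comm (X.zel_comm _ _) _ _

theorem kerHom_apply (a : ZMod 3) (d : Z2) :
    X.kerHom (Multiplicative.ofAdd (a, d)) = X.el scal ^ a.val * X.zel d := rfl

theorem kerHom_injective : Function.Injective X.kerHom := by
  have hS : X.nat (X.el scal) = X.Ts (code scal).cs := X.nat_elt _ _
  rw [← MonoidHom.ker_eq_bot_iff, Subgroup.eq_bot_iff_forall]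
  intro v hv
  rw [MonoidHom.mem_ker] at hv
  obtain ⟨⟨a, d⟩, rfl⟩ := Multiplicative.ofAdd.surjective v
  rw [X.kerHom_apply] at hv
  have h1 : X.nat (X.el scal) ^ a.val = 1 := by
    have := congrArg X.nat hv
    rwa [map_mul, map_pow, X.nat_zel, mul_one, map_one] at this
  have ha : a = 0 := by
    by_contra ha
    have hdiv := orderOf_dvd_of_pow_eq_one h1
    have hne : X.nat (X.el scal) ≠ 1 := fun e => X.w_ne.2 (by
      have h2 := X.app_scal (Pi.single 0 1)
      rw [← hS, e, app_one] at h2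
      simpa using (congrFun h2 0).symm)
    have ho : orderOf (X.nat (X.el scal)) = 3 :=
      orderOf_eq_prime (hp := ⟨Nat.prime_three⟩) (by rw [← map_pow, X.scal_pow, map_one]) hne
    rw [ho] at hdiv
    have := ZMod.val_lt a
    exact ha ((ZMod.val_eq_zero a).1 (by omega))
  subst ha
  rw [ZMod.val_zero, pow_zero, one_mul] at hv
  have hd : d = 0 := by rw [← X.f0_zel d, hv, ← X.zel_zero, X.f0_zel]
  subst hd
  rfl

theorem kerHom_range {g : X.cover} :
    g ∈ X.kerHom.range ↔ X.nat g ∈ Subgroup.center (suG X.C (Fin 6)) := by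
  constructor
  · rintro ⟨v, rfl⟩
    obtain ⟨⟨a, d⟩, rfl⟩ := Multiplicative.ofAdd.surjective v
    rw [X.kerHom_apply, map_mul, map_pow, X.nat_zel, mul_one]
    exact Subgroup.pow_mem _ X.nat_scal_central _
  · intro hg
    obtain ⟨a, ha0, ha⟩ := X.exists_scalar hg
    have hp : ∃ k : ℕ, k < 3 ∧ a = X.w ^ k := by
      obtain ⟨c, hc, rfl⟩ := X.fv_surjective a
      have h0 : c ≠ 0 := fun e => ha0 (by rw [e, X.fv_zero])
      rcases (show c = 1 ∨ c = 2 ∨ c = 3 by omega) with rfl | rfl | rfl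
      · exact ⟨0, by norm_num, by rw [X.fv_one, pow_zero]⟩
      · exact ⟨1, by norm_num, by rw [X.fv_two, pow_one]⟩
      · exact ⟨2, by norm_num, by rw [X.fv_three]; linear_combination (1 + X.w) * X.two - X.hw⟩
    obtain ⟨k, hk, rfl⟩ := hp
    have hpow : ∀ (n : ℕ) (x : Fin 6 → F),
        app X.C ((X.nat (X.el scal)) ^ n) x = X.w ^ n • x := by
      intro n
      induction n with
      | zero => intro x; rw [pow_zero, pow_zero, app_one, one_smul]
      | succ n ih =>
        intro x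
        rw [pow_succ, app_mul, ih, el, X.nat_elt, X.app_scal, smul_smul, ← pow_succ]
    refine ⟨Multiplicative.ofAdd ((k : ZMod 3), X.f0 ((X.el scal ^ k)⁻¹ * g)), ?_⟩
    rw [X.kerHom_apply, ZMod.val_natCast, Nat.mod_eq_of_lt hk, ← X.nat_eq_one (by
      rw [map_mul, map_inv, map_pow, inv_mul_eq_one]
      exact suG_ext X.C fun x => by rw [hpow, ha]), mul_inv_cancel_left]

end Ctx

/-- The Schur multiplier of `PSU₆(2)` has type `3 × 2 × 2`. -/
theorem multiplier_psu_six_two (hF : Fintype.card F = 4) :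
    Cfsg.HasSchurMultiplier (Cfsg.PSU 6 F 2) (Multiplicative (ZMod 3 × ZMod 2 × ZMod 2)) := by
  obtain ⟨X⟩ := exists_ctx hF
  suffices h : Cfsg.HasSchurMultiplier (Cfsg.PSU 6 F X.C.q)
      (Multiplicative (ZMod 3 × ZMod 2 × ZMod 2)) by
    rwa [X.hC] at h
  let eS : suG X.C (Fin 6) ≃* Cfsg.SU 6 F X.C.q := MulEquiv.subgroupCongr (suG_fin_eq X.C 6)
  let τ : X.cover →* Cfsg.PSU 6 F X.C.q :=
    (QuotientGroup.mk' (Subgroup.center (Cfsg.SU 6 F X.C.q))).comp (eS.toMonoidHom.comp X.nat)
  have hτ : Function.Surjective τ :=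
    (QuotientGroup.mk'_surjective _).comp (eS.surjective.comp X.nat_surjective)
  have hker : ∀ g, g ∈ τ.ker ↔ X.nat g ∈ Subgroup.center (suG X.C (Fin 6)) := by
    intro g
    rw [MonoidHom.mem_ker]
    show QuotientGroup.mk' _ (eS (X.nat g)) = 1 ↔ _
    rw [QuotientGroup.mk'_apply, QuotientGroup.eq_one_iff, Subgroup.mem_center_iff,
      Subgroup.mem_center_iff]
    exact ⟨fun h y => eS.injective (by rw [map_mul, map_mul]; exact h (eS y)),
      fun h y => by
        obtain ⟨y, rfl⟩ := eS.surjective y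
        rw [← map_mul, ← map_mul, h]⟩
  have hrange : X.kerHom.range = τ.ker := Subgroup.ext fun g => X.kerHom_range.trans (hker g).symm
  let e : τ.ker ≃* Multiplicative (ZMod 3 × ZMod 2 × ZMod 2) :=
    (MulEquiv.subgroupCongr hrange.symm).trans (MonoidHom.ofInjective X.kerHom_injective).symm
  have hc : τ.ker ≤ Subgroup.center X.cover := fun g hg =>
    X.central_of_nat_central ((hker g).1 hg)
  have hperf := X.cover_perfect
  haveI : Finite X.cover := inferInstance
  refine ⟨⟨X.cover, inferInstance, inferInstance, τ,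
    ⟨hτ, hc, fun g _ => hperf ▸ Subgroup.mem_top g⟩, ⟨e⟩⟩, ?_⟩
  intro Γ _ _ σ hσ
  have hG : Group.IsPerfect (Cfsg.PSU 6 F X.C.q) := Group.isPerfect_def.mpr (by
    rw [commutator_def, ← Subgroup.map_top_of_surjective τ hτ, ← Subgroup.map_commutator,
      ← commutator_def, hperf])
  let ι : commutator X.cover ≃* X.cover :=
    (MulEquiv.subgroupCongr hperf).trans Subgroup.topEquiv
  obtain ⟨π, hπ⟩ := Schur.exists_ker_surjective τ hτ hc hG
    (fun Δ _ _ ρ hρ => by
      have hk : (ι.toMonoidHom.comp ρ).ker = ρ.ker := by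
        ext x
        simp [MonoidHom.mem_ker]
      have := X.cover_no_stem (ι.toMonoidHom.comp ρ)
        ⟨ι.surjective.comp hρ.1, hk ▸ hρ.2.1, hk ▸ hρ.2.2⟩
      rwa [hk] at this) σ hσ
  let ψ : τ.ker →* (τ.comp (commutator X.cover).subtype).ker :=
    { toFun := fun z => ⟨⟨z.1, hperf ▸ Subgroup.mem_top z.1⟩, z.2⟩
      map_one' := rfl
      map_mul' := fun _ _ => rfl }
  have hψ : Function.Surjective ψ := fun z => ⟨⟨z.1.1, z.2⟩, rfl⟩
  exact ⟨(π.comp ψ).comp e.symm.toMonoidHom, (hπ.comp hψ).comp e.symm.surjective⟩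

end CfsgLib.USixMult
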