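import Cfsg.Agent.USixMult.Field
import Cfsg.Agent.USixMult.Data
import Cfsg.Agent.CoverTab.Basic
import Cfsg.Agent.Ru.Bits

/-!
Lookups in the tables and the computable action of coded elements.
-/

set_option autoImplicit false
set_option maxRecDepth 100000

namespace CfsgLib.USixMult

open CfsgLib.Ru (force)

/-- A representative. -/
def rep (i : ℕ) : ℕ := Nat.land (Nat.shiftRight repTab (Nat.mul 12 i)) 4095

/-- The number of a point. -/
def idx (v : ℕ) : ℕ := Nat.land (Nat.shiftRight idxTab (Nat.mul 10 v)) 1023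

/-- A row of the connection. -/
def row (i : ℕ) : ℕ := (kapRows.getD (Nat.div i 32) []).getD (Nat.mod i 32) 0

/-- An entry of a row. -/
def entry (r j : ℕ) : ℕ := Nat.land (Nat.shiftRight r (Nat.mul 3 j)) 7

/-- Adjacency. -/
def adjB (i j : ℕ) : Bool := Nat.beq (Nat.land (entry (row i) j) 1) 1

/-- The connection. -/
def kap (i j : ℕ) : ℕ := Nat.shiftRight (entry (row i) j) 1

/-- A common neighbour of the first point and a given one. -/
def mid (i : ℕ) : ℕ := Nat.land (Nat.shiftRight midTab (Nat.mul 10 i)) 1023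

/-- An isotropic point. -/
def orbv (k : ℕ) : ℕ := Nat.land (Nat.shiftRight orbTab (Nat.mul 12 k)) 4095

/-- The generator leading to a point. -/
def parGen (k : ℕ) : ℕ := Nat.land (Nat.land (Nat.shiftRight parTab (Nat.mul 11 k)) 2047) 1

/-- The parent of a point. -/
def parPt (k : ℕ) : ℕ := Nat.shiftRight (Nat.land (Nat.shiftRight parTab (Nat.mul 11 k)) 2047) 1

/-- The number of an isotropic point. -/
def isoIdx (v : ℕ) : ℕ := Nat.land (Nat.shiftRight isoTab (Nat.mul 10 v)) 1023

/-- A coded element. -/
def code (s : ℕ) : Code := codes.getD s idCode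

/-- The action of a coded element. -/
def img (C : Code) (v : ℕ) : ℕ :=
  Nat.xor (Nat.xor (Nat.land (Nat.shiftRight C.t0 (Nat.mul 12 (Nat.land v 15))) 4095)
    (Nat.land (Nat.shiftRight C.t1 (Nat.mul 12 (Nat.land (Nat.shiftRight v 4) 15))) 4095))
    (Nat.land (Nat.shiftRight C.t2 (Nat.mul 12 (Nat.shiftRight v 8))) 4095)

/-- The permutation of the points. -/
def pt (C : Code) (i : ℕ) : ℕ := idx (img C (rep i))

/-- The shift at a point, from the shift at the first point. -/
def phi (C : Code) (y : ℕ) : ℕ :=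
  cond (Nat.beq y 0) C.c
    (cond (adjB 0 y) (Nat.xor C.c (Nat.xor (kap 0 y) (kap (pt C 0) (pt C y))))
      (Nat.xor (Nat.xor C.c (Nat.xor (kap 0 (mid y)) (kap (pt C 0) (pt C (mid y)))))
        (Nat.xor (kap (mid y) y) (kap (pt C (mid y)) (pt C y)))))

/-- One letter on a state: images of the basis, of the first point, and the shift. -/
def step (C : Code) (q : List ℕ × ℕ × ℕ) : List ℕ × ℕ × ℕ :=
  (q.1.map (img C), img C q.2.1, Nat.xor q.2.2 (phi C (idx q.2.1)))

/-- The state of a word. -/
def state : List ℕ → List ℕ × ℕ × ℕ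
  | [] => ([1, 4, 16, 64, 256, 1024], rep 0, 0)
  | s :: w => step (code s) (state w)

/-- The key of a state. -/
def keyOf (q : List ℕ × ℕ × ℕ) : ℕ :=
  Nat.add (Nat.mul 4 (q.1.foldl (fun k v => Nat.add (Nat.mul k 4096) v) 0)) q.2.2

/-- The key of a word. -/
def wkey (w : List ℕ) : ℕ := keyOf (state w)

/-- Two words with the same key. -/
def weq (u v : List ℕ) : Bool := Nat.beq (wkey u) (wkey v)

/-- A coded element is consistent. -/
def okCode (C : Code) : Bool :=
  (C.cs.all fun c => Nat.blt c 4096 && Nat.beq (hc c c) 0) && Nat.blt C.c 4 &&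
    Mathieu.allBelow 16 fun a =>
      Nat.beq (Nat.land (Nat.shiftRight C.t0 (Nat.mul 12 a)) 4095) (tvs C.cs a) &&
      Nat.beq (Nat.land (Nat.shiftRight C.t1 (Nat.mul 12 a)) 4095) (tvs C.cs (Nat.mul 16 a)) &&
      Nat.beq (Nat.land (Nat.shiftRight C.t2 (Nat.mul 12 a)) 4095) (tvs C.cs (Nat.mul 256 a))

/-- The blocks of a vector. -/
def okSplit : Bool :=
  Mathieu.allBelow 4096 fun v =>
    Nat.beq v (Nat.xor (Nat.xor (Nat.land v 15) (Nat.mul 16 (Nat.land (Nat.shiftRight v 4) 15)))
      (Nat.mul 256 (Nat.shiftRight v 8))) && Nat.blt (Nat.shiftRight v 8) 16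

/-- The representatives. -/
def okRep : Bool :=
  Mathieu.allBelow 672 fun i =>
    Nat.blt (rep i) 4096 && Nat.beq (hc (rep i) (rep i)) 1 &&
      [1, 2, 3].all fun a => Nat.beq (idx (vsmul a (rep i))) i

/-- Every vector of norm one lies on its point. -/
def okIdx : Bool :=
  Mathieu.allBelow 4096 fun v => cond (Nat.beq (hc v v) 1)
    (Nat.blt (idx v) 672 && [1, 2, 3].any fun a => Nat.beq v (vsmul a (rep (idx v)))) true

/-- The common neighbours. -/
def okMid : Bool :=
  Mathieu.allBelow 672 fun y => Nat.beq y 0 || adjB 0 y ||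
    (Nat.blt (mid y) 672 && adjB 0 (mid y) && adjB (mid y) y)

/-- An element preserves the connection up to its shifts. -/
noncomputable def okEdges (g : ℕ × ℕ × ℕ) : Bool :=
  (Mathieu.allBelow 672 fun i =>
    Nat.beq (Nat.land (Nat.shiftRight g.2.1 (Nat.mul 10 i)) 1023) (pt (code g.1) i)) &&
  Nat.beq (Nat.land g.2.2 3) (code g.1).c &&
  Mathieu.allBelow 672 fun i =>
    force (row i) fun r =>
    force (row (Nat.land (Nat.shiftRight g.2.1 (Nat.mul 10 i)) 1023)) fun r' =>
    force (Nat.land (Nat.shiftRight g.2.2 (Nat.mul 2 i)) 3) fun fi =>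
      Mathieu.allBelow 672 fun j =>
        force (entry r j) fun x =>
          cond (Nat.beq (Nat.land x 1) 1)
            (force (entry r' (Nat.land (Nat.shiftRight g.2.1 (Nat.mul 10 j)) 1023)) fun x' =>
              Nat.beq (Nat.land x' 1) 1 &&
                Nat.beq (Nat.shiftRight x' 1) (Nat.xor (Nat.xor (Nat.shiftRight x 1) fi)
                  (Nat.land (Nat.shiftRight g.2.2 (Nat.mul 2 j)) 3)))
            true

/-- The isotropic points along the tree. -/
def okTree : Bool :=
  Mathieu.allBelow 693 fun k =>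
    Nat.blt (orbv k) 4096 && Nat.beq (hc (orbv k) (orbv k)) 0 &&
      (Nat.beq k 0 || (Nat.blt (parPt k) k &&
        [1, 2, 3].any fun a => Nat.beq (orbv k)
          (vsmul a (img (code (parGen k)) (orbv (parPt k))))))

/-- Every isotropic vector lies on a point of the tree. -/
def okIso : Bool :=
  Mathieu.allBelow 4096 fun v => cond (Nat.beq (hc v v) 0)
    (Nat.beq v 0 || (Nat.blt (isoIdx v) 693 &&
      [1, 2, 3].any fun a => Nat.beq v (vsmul a (orbv (isoIdx v))))) true

theorem codes_ok : codes.all okCode = true := by decide +kernel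

theorem idCode_ok : okCode idCode = true := by decide +kernel

theorem okSplit_true : okSplit = true := by decide +kernel

theorem okRep_true : okRep = true := by decide +kernel

theorem okIdx_true : okIdx = true := by decide +kernel

theorem okMid_true : okMid = true := by decide +kernel

theorem okEdges_a : okEdges (genInfo.getD 0 (0, 0, 0)) = true := by decide +kernel

theorem okEdges_b : okEdges (genInfo.getD 1 (0, 0, 0)) = true := by decide +kernel

theorem okTree_true : okTree = true := by decide +kernel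

theorem okIso_true : okIso = true := by decide +kernel

theorem t0_img : (Mathieu.allBelow 6 fun i =>
    Nat.beq ((state t0Word).1.getD i 0) (tvc (orbv 0) (bas i))) = true := by decide +kernel

end CfsgLib.USixMult
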