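import Cfsg.Agent.USixMult.Table
import Cfsg.Agent.Schur.TwoCertWide
import Cfsg.Agent.Schur.PcCover

/-!
The checks on the Sylow subgroups, the fusion, and the central elements.
-/

set_option autoImplicit false
set_option maxRecDepth 100000

namespace CfsgLib.USixMult

/-- Certificate for the prime two. -/
def cert2 : Schur.TwoWide.Cert :=
  ⟨17, rows2, fus2, assoc2, fusEq2, eqs2, adj2, combo2, fuel2⟩

/-- The number of a generator of the Sylow 2-subgroup. -/
def y2n (i : ℕ) : ℕ := xi2.getD i 99

/-- The number of a generator of the Sylow 3-subgroup. -/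
def y3n (i : ℕ) : ℕ := xi3.getD i 99

/-- The Sylow 2-subgroup satisfies its rules, and the fusion holds. -/
def okTwo : Bool :=
  (cert2.rules.all fun q => weq (q.1.map y2n) (q.2.map y2n)) &&
    (List.range fus2.length).all fun f => (List.range 32).all fun s =>
      weq (gs2.getD f 99 :: ((fus2.getD f ([], [])).1.getD s []).map y2n)
        (((fus2.getD f ([], [])).2.getD s []).map y2n ++ [gs2.getD f 99])

/-- A generator moves a point out of an orbit of the later ones. -/
def okSepAt (i : ℕ) : Bool :=
  let d := sepData.getD i (0, [])
  decide (d.1 ∈ d.2) && d.2.all (fun o => Nat.blt o 4096) &&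
    !decide (img (code (y2n i)) d.1 ∈ d.2) &&
    (List.range (16 - i)).all fun k => d.2.all fun o => decide (img (code (y2n (i + 1 + k))) o ∈ d.2)

/-- The Sylow 3-subgroup satisfies its rules, and the fusion holds. -/
def okThree : Bool :=
  (cert3.rules.all fun q => weq (q.1.map y3n) (q.2.map y3n)) &&
    Nat.beq gs3.length cert3.fus.length &&
      (List.range cert3.fus.length).all fun f => (List.range cert3.fusW).all fun s =>
        weq (gs3.getD f 99 :: ((cert3.fus.getD f ([], [])).1.getD s []).map y3n)
          (((cert3.fus.getD f ([], [])).2.getD s []).map y3n ++ [gs3.getD f 99])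

/-- A coded element of the given prime order. -/
def okPrime (p s : ℕ) : Bool := weq (List.replicate p s) [] && !weq [s] []

/-- The scalar. -/
def okScal : Bool :=
  okPrime 3 scal && Mathieu.allBelow 6 fun i => Nat.beq (img (code scal) (bas i)) (vsmul 2 (bas i))

theorem okTwo_true : okTwo = true := by decide +kernel

theorem cert2_eqs : cert2.eqsCheck = true := by decide +kernel

theorem cert2_lin : cert2.linCheck = true := by decide +kernel

theorem cert2_shaped : Schur.Pc.shaped 2 17 cert2.rules = true := by decide +kernel

theorem okSep_all : ∀ i < 15, okSepAt i = true := by decide +kernel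

theorem z_keys : (wkey [y2n 15] ≠ wkey [] ∧ wkey [y2n 16] ≠ wkey [] ∧
    wkey [y2n 15] ≠ wkey [y2n 16]) := by decide +kernel

theorem z_codes : (code (y2n 15)).cs = [] ∧ (code (y2n 15)).c = 1 ∧
    (code (y2n 16)).cs = [] ∧ (code (y2n 16)).c = 2 := by decide +kernel

theorem okThree_true : okThree = true := by decide +kernel

theorem cert3_check : cert3.check = true := by decide +kernel

theorem keys3 : CoverTab.nodupMask
    ((Schur.Pc.normalWords 3 7 0).map fun w => wkey (w.map y3n) % mod3) 0 = true := by
  decide +kernel

theorem okPrime_all : okPrime 5 (cyc.getD 0 99) = true ∧ okPrime 7 (cyc.getD 1 99) = true ∧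
    okPrime 11 (cyc.getD 2 99) = true := by decide +kernel

theorem okScal_true : okScal = true := by decide +kernel

theorem com_two : weq (([8, 5, 11] : List ℕ) ++ [4, 10]) (y2n 16 :: ([4, 10] ++ [8, 5, 11])) = true := by
  decide +kernel

theorem com_three : weq (([13, 11, 15] : List ℕ) ++ [4, 3, 5])
    (y2n 15 :: y2n 16 :: ([4, 3, 5] ++ [13, 11, 15])) = true := by decide +kernel

end CfsgLib.USixMult
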