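import Cfsg.Agent.USixMult.Table
import Mathlib.Data.ZMod.Basic

/-!
The fourfold cover: pairs of an element of `SU₆(2)` and a permutation of the fibres over the
nonisotropic points which respects the connection on adjacent points.
-/

set_option autoImplicit false
set_option linter.style.haveILetI false
set_option maxRecDepth 100000

namespace CfsgLib.USixMult

open Matrix CfsgLib.RepBounds.Unit

/-- The fibre. -/
abbrev Z2 : Type := ZMod 2 × ZMod 2

/-- The element of the fibre with a given code. -/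
def kv (c : ℕ) : Z2 := (if c.testBit 0 then 1 else 0, if c.testBit 1 then 1 else 0)

theorem kv_xor (a b : ℕ) : kv (Nat.xor a b) = kv a + kv b := by
  show kv (a ^^^ b) = _
  simp only [kv, Nat.testBit_xor, Prod.mk_add_mk]
  cases a.testBit 0 <;> cases b.testBit 0 <;> cases a.testBit 1 <;> cases b.testBit 1 <;> decide

theorem kv_zero : kv 0 = 0 := by decide

theorem kv_surjective : ∀ z : Z2, ∃ c < 4, kv c = z := by decide

theorem kv_injective : ∀ a < 4, ∀ b < 4, kv a = kv b → a = b := by decide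

theorem add_self_z2 : ∀ z : Z2, z + z = 0 := by decide

/-- The connection. -/
def kz (i j : Fin 672) : Z2 := kv (kap i.val j.val)

/-- Adjacency. -/
def edge (i j : Fin 672) : Prop := adjB i.val j.val = true

theorem code_ok (s : ℕ) : okCode (code s) = true := by
  by_cases h : s < codes.length
  · rw [code, List.getD_eq_getElem _ _ h]
    exact List.all_eq_true.1 codes_ok _ (List.getElem_mem h)
  · rw [code, List.getD_eq_default _ _ (not_lt.1 h)]
    exact idCode_ok

theorem code_cs (s : ℕ) : ∀ c ∈ (code s).cs, c < 4096 ∧ hc c c = 0 := by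
  intro c hc'
  have h := code_ok s
  simp only [okCode, Bool.and_eq_true, List.all_eq_true] at h
  exact ⟨Nat.le_of_ble_eq_true (h.1.1 c hc').1, Nat.eq_of_beq_eq_true (h.1.1 c hc').2⟩

universe u

variable {F : Type u} [Field F] [Fintype F]

namespace Ctx

variable (X : Ctx F)
include X

/-- The image of a vector under a coded element. -/
theorem app_code (s : ℕ) {v : ℕ} (hv : v < 4096) :
    app X.C (X.Ts (code s).cs) (X.dec v) = X.dec (img (code s) v) ∧ img (code s) v < 4096 := by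
  have h := code_ok s
  simp only [okCode, Bool.and_eq_true, Mathieu.allBelow_iff] at h
  obtain ⟨-, htab⟩ := h
  have hs := okSplit_true
  simp only [okSplit, Mathieu.allBelow_iff, Bool.and_eq_true] at hs
  obtain ⟨hsplit, hhi⟩ := hs v hv
  have hcs := code_cs s
  have hcs' : ∀ c ∈ (code s).cs, c < 4096 := fun c hc' => (hcs c hc').1
  have a0 : Nat.land v 15 < 16 := Nat.lt_succ_of_le (show v &&& 15 ≤ 15 from Nat.and_le_right)
  have a1 : Nat.land (Nat.shiftRight v 4) 15 < 16 :=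
    Nat.lt_succ_of_le (show Nat.shiftRight v 4 &&& 15 ≤ 15 from Nat.and_le_right)
  have a2 : Nat.shiftRight v 8 < 16 := Nat.le_of_ble_eq_true hhi
  have e0 := Nat.eq_of_beq_eq_true (htab _ a0).1.1
  have e1 := Nat.eq_of_beq_eq_true (htab _ a1).1.2
  have e2 := Nat.eq_of_beq_eq_true (htab _ a2).2
  have b1 : Nat.mul 16 (Nat.land (Nat.shiftRight v 4) 15) < 4096 := by
    show 16 * _ < 4096; omega
  have b2 : Nat.mul 256 (Nat.shiftRight v 8) < 4096 := by
    show 256 * _ < 4096; omega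
  constructor
  · conv_lhs => rw [Nat.eq_of_beq_eq_true hsplit]
    rw [X.dec_xor, X.dec_xor, app_add, app_add, X.app_Ts hcs, X.app_Ts hcs, X.app_Ts hcs,
      img, e0, e1, e2, X.dec_xor, X.dec_xor]
  · rw [img, e0, e1, e2]
    exact xor_lt (xor_lt (tvs_lt hcs' (lt_trans a0 (by norm_num))) (tvs_lt hcs' b1)) (tvs_lt hcs' b2)

theorem rep_spec (i : Fin 672) : rep i.val < 4096 ∧ hc (rep i.val) (rep i.val) = 1 ∧
    ∀ a, 0 < a → a < 4 → idx (vsmul a (rep i.val)) = i.val := by
  have h := okRep_true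
  simp only [okRep, Mathieu.allBelow_iff, Bool.and_eq_true, List.all_eq_true] at h
  obtain ⟨⟨h1, h2⟩, h3⟩ := h i.val i.2
  refine ⟨Nat.le_of_ble_eq_true h1, Nat.eq_of_beq_eq_true h2, fun a ha ha' => ?_⟩
  exact Nat.eq_of_beq_eq_true (h3 a (by
    simp only [List.mem_cons, List.not_mem_nil, or_false]; omega))

theorem idx_spec {v : ℕ} (hv : v < 4096) (h1 : hc v v = 1) :
    idx v < 672 ∧ ∃ a, 0 < a ∧ a < 4 ∧ v = vsmul a (rep (idx v)) := by
  have h := okIdx_true
  simp only [okIdx, Mathieu.allBelow_iff] at h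
  have h' := h v hv
  rw [h1, show Nat.beq 1 1 = true from rfl, cond_true] at h'
  simp only [Bool.and_eq_true, List.any_eq_true] at h'
  obtain ⟨hlt, a, ha, e⟩ := h'
  refine ⟨Nat.le_of_ble_eq_true hlt, a, ?_, ?_, Nat.eq_of_beq_eq_true e⟩ <;>
    (simp only [List.mem_cons, List.not_mem_nil, or_false] at ha; omega)

theorem hc_of_herm {v : ℕ} (hv : herm X.C (X.dec v) (X.dec v) = 1) : hc v v = 1 := by
  rw [X.herm_dec, ← X.fv_one] at hv
  exact X.fv_injective (hc_lt v v) (by norm_num) hv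

/-- The representative vector of a point. -/
noncomputable def rv (i : Fin 672) : Fin 6 → F := X.dec (rep i.val)

theorem herm_rv (i : Fin 672) : herm X.C (X.rv i) (X.rv i) = 1 := by
  rw [rv, X.herm_dec, (X.rep_spec i).2.1, X.fv_one]

theorem herm_app_rv (g : suG X.C (Fin 6)) (i : Fin 672) :
    herm X.C (app X.C g (X.rv i)) (app X.C g (X.rv i)) = 1 := by rw [herm_app, X.herm_rv]

theorem idx_lt {x : Fin 6 → F} (hx : herm X.C x x = 1) : idx (X.enc x) < 672 :=
  (X.idx_spec (X.enc_lt x) (X.hc_of_herm (by rwa [X.dec_enc]))).1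

/-- The point of a vector of norm one. -/
noncomputable def point (x : Fin 6 → F) (hx : herm X.C x x = 1) : Fin 672 :=
  ⟨idx (X.enc x), X.idx_lt hx⟩

theorem point_smul {i : Fin 672} {a : F} (ha : a ≠ 0) (hx : herm X.C (a • X.rv i) (a • X.rv i) = 1) :
    X.point (a • X.rv i) hx = i := by
  obtain ⟨c, hc4, rfl⟩ := X.fv_surjective a
  have hc0 : 0 < c := Nat.pos_of_ne_zero fun e => ha (by rw [e, X.fv_zero])
  obtain ⟨h1, -, h3⟩ := X.rep_spec i
  apply Fin.ext
  show idx (X.enc (X.fv c • X.dec (rep i.val))) = i.val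
  rw [← X.dec_vsmul hc4 h1, X.enc_dec (vsmul_spec hc4 h1).1, h3 c hc0 hc4]

theorem exists_smul (x : Fin 6 → F) (hx : herm X.C x x = 1) :
    ∃ a : F, a ≠ 0 ∧ x = a • X.rv (X.point x hx) := by
  obtain ⟨hlt, c, hc0, hc4, e⟩ := X.idx_spec (X.enc_lt x) (X.hc_of_herm (by rwa [X.dec_enc]))
  refine ⟨X.fv c, X.fv_ne_zero hc4 (Nat.pos_iff_ne_zero.1 hc0), ?_⟩
  show x = X.fv c • X.dec (rep (idx (X.enc x)))
  rw [← X.dec_vsmul hc4 (X.rep_spec ⟨_, hlt⟩).1, ← e, X.dec_enc]

/-- The action on the points. -/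
noncomputable def pi (g : suG X.C (Fin 6)) (i : Fin 672) : Fin 672 :=
  X.point (app X.C g (X.rv i)) (X.herm_app_rv g i)

theorem pi_eq {g : suG X.C (Fin 6)} {i j : Fin 672} {a : F} (ha : a ≠ 0)
    (h : app X.C g (X.rv i) = a • X.rv j) : X.pi g i = j := by
  have hx : herm X.C (a • X.rv j) (a • X.rv j) = 1 := by rw [← h]; exact X.herm_app_rv g i
  rw [← X.point_smul ha hx]
  apply Fin.ext
  show idx (X.enc _) = idx (X.enc _)
  rw [h]

theorem pi_one (i : Fin 672) : X.pi 1 i = i :=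
  X.pi_eq one_ne_zero (by rw [app_one, one_smul])

theorem pi_mul (g h : suG X.C (Fin 6)) (i : Fin 672) : X.pi (g * h) i = X.pi g (X.pi h i) := by
  obtain ⟨a, ha, ea⟩ := X.exists_smul _ (X.herm_app_rv h i)
  obtain ⟨b, hb, eb⟩ := X.exists_smul _ (X.herm_app_rv g (X.pi h i))
  refine X.pi_eq (mul_ne_zero ha hb) ?_
  show app X.C (g * h) (X.rv i) = _
  rw [app_mul, ea, app_smul]
  show a • app X.C g (X.rv (X.pi h i)) = _
  rw [eb, smul_smul]
  rfl

theorem pi_code (s : ℕ) (i : Fin 672) :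
    (X.pi (X.Ts (code s).cs) i).val = pt (code s) i.val := by
  show idx (X.enc (app X.C _ (X.rv i))) = _
  have h := X.app_code s (X.rep_spec i).1
  rw [rv, h.1, X.enc_dec h.2]
  rfl

/-- The ambient group. -/
abbrev Amb : Type u := suG X.C (Fin 6) × Equiv.Perm (Fin 672 × Z2)

/-- A pair which respects the connection. -/
def Good (g : X.Amb) : Prop :=
  ∃ f : Fin 672 → Z2, (∀ i e, g.2 (i, e) = (X.pi g.1 i, e + f i)) ∧
    ∀ i j, edge i j → edge (X.pi g.1 i) (X.pi g.1 j) ∧
      kz (X.pi g.1 i) (X.pi g.1 j) = kz i j + f i + f j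

theorem good_one : X.Good 1 :=
  ⟨0, fun i e => by simp [X.pi_one], fun i j h => by simpa [X.pi_one] using h⟩

theorem good_mul {g h : X.Amb} (hg : X.Good g) (hh : X.Good h) : X.Good (g * h) := by
  obtain ⟨f, hf, hfe⟩ := hg
  obtain ⟨f', hf', hfe'⟩ := hh
  refine ⟨fun i => f' i + f (X.pi h.1 i), fun i e => ?_, fun i j hij => ?_⟩
  · rw [Prod.snd_mul, Equiv.Perm.mul_apply, hf', hf, Prod.fst_mul, X.pi_mul, add_assoc]
  · obtain ⟨h1, e1⟩ := hfe' i j hij
    obtain ⟨h2, e2⟩ := hfe _ _ h1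
    simp only [Prod.fst_mul, X.pi_mul]
    refine ⟨h2, ?_⟩
    rw [e2, e1]
    abel

omit X in
theorem good_inv {X : Ctx F} {g : X.Amb} (hg : X.Good g) : X.Good g⁻¹ := by
  haveI : Finite X.Amb := inferInstance
  have hp : ∀ k : ℕ, X.Good (g ^ k) := fun k => by
    induction k with
    | zero => rw [pow_zero]; exact X.good_one
    | succ k ih => rw [pow_succ]; exact X.good_mul ih hg
  have ho : 0 < orderOf g := orderOf_pos g
  have e : g⁻¹ = g ^ (orderOf g - 1) :=
    inv_eq_of_mul_eq_one_right (by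
      rw [← pow_succ', Nat.sub_add_cancel ho, pow_orderOf_eq_one])
  rw [e]
  exact hp _

/-- The cover. -/
def cover : Subgroup X.Amb where
  carrier := {g | X.Good g}
  one_mem' := X.good_one
  mul_mem' := X.good_mul
  inv_mem' := good_inv

/-- The projection. -/
def nat : X.cover →* suG X.C (Fin 6) := (MonoidHom.fst _ _).comp X.cover.subtype

/-- The shift at the first point. -/
def f0 (g : X.cover) : Z2 := (g.1.2 (0, 0)).2

theorem shift_formula {g : X.Amb} {f : Fin 672 → Z2}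
    (hfe : ∀ i j, edge i j → edge (X.pi g.1 i) (X.pi g.1 j) ∧
      kz (X.pi g.1 i) (X.pi g.1 j) = kz i j + f i + f j) {i j : Fin 672} (h : edge i j) :
    f j = f i + (kz i j + kz (X.pi g.1 i) (X.pi g.1 j)) := by
  rw [(hfe i j h).2]
  calc f j = f j + 0 + 0 := by simp
    _ = f j + (f i + f i) + (kz i j + kz i j) := by rw [add_self_z2, add_self_z2]
    _ = _ := by abel

theorem mid_spec (y : Fin 672) : y = 0 ∨ edge 0 y ∨
    ∃ h : mid y.val < 672, edge 0 ⟨mid y.val, h⟩ ∧ edge ⟨mid y.val, h⟩ y := by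
  have h := okMid_true
  simp only [okMid, Mathieu.allBelow_iff, Bool.or_eq_true, Bool.and_eq_true] at h
  rcases h y.val y.2 with (h0 | h0) | ⟨⟨h1, h2⟩, h3⟩
  · exact Or.inl (Fin.ext (Nat.eq_of_beq_eq_true h0))
  · exact Or.inr (Or.inl h0)
  · exact Or.inr (Or.inr ⟨Nat.le_of_ble_eq_true h1, h2, h3⟩)

theorem cover_ext {g h : X.cover} (h1 : X.nat g = X.nat h) (h2 : X.f0 g = X.f0 h) : g = h := by
  obtain ⟨⟨A, σ⟩, hg⟩ := g
  obtain ⟨⟨B, τ⟩, hh⟩ := h
  change A = B at h1
  subst h1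
  obtain ⟨f, hf, hfe⟩ := hg
  obtain ⟨f', hf', hfe'⟩ := hh
  change (σ (0, 0)).2 = (τ (0, 0)).2 at h2
  rw [hf, hf'] at h2
  replace h2 : f 0 = f' 0 := by simpa only [zero_add] using h2
  have key : ∀ y, f y = f' y := by
    intro y
    rcases X.mid_spec y with rfl | he | ⟨hm, he, he'⟩
    · exact h2
    · rw [X.shift_formula hfe he, X.shift_formula hfe' he, h2]
    · rw [X.shift_formula hfe he', X.shift_formula hfe' he', X.shift_formula hfe he,
        X.shift_formula hfe' he, h2]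
  have : σ = τ := Equiv.ext fun ⟨i, e⟩ => by rw [hf, hf', key]
  subst this
  rfl

theorem f0_mul (g h : X.cover) :
    ∃ fg : Fin 672 → Z2, fg 0 = X.f0 g ∧ (∀ i j, edge i j →
      edge (X.pi (X.nat g) i) (X.pi (X.nat g) j) ∧
        kz (X.pi (X.nat g) i) (X.pi (X.nat g) j) = kz i j + fg i + fg j) ∧
      X.f0 (g * h) = X.f0 h + fg (X.pi (X.nat h) 0) := by
  obtain ⟨f, hf, hfe⟩ := g.2
  obtain ⟨f', hf', hfe'⟩ := h.2
  refine ⟨f, ?_, hfe, ?_⟩
  · show f 0 = (g.1.2 (0, 0)).2
    rw [hf, zero_add]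
  · show ((g.1 * h.1).2 (0, 0)).2 = (h.1.2 (0, 0)).2 + f (X.pi h.1.1 0)
    rw [Prod.snd_mul, Equiv.Perm.mul_apply, hf', hf]

/-- The element shifting every fibre. -/
def zAmb (d : Z2) : X.Amb :=
  (1, ⟨fun q => (q.1, q.2 + d), fun q => (q.1, q.2 + d),
    fun q => by ext <;> simp [add_assoc, add_self_z2],
    fun q => by ext <;> simp [add_assoc, add_self_z2]⟩)

theorem zAmb_good (d : Z2) : X.Good (X.zAmb d) := by
  refine ⟨fun _ => d, fun i e => ?_, fun i j h => ?_⟩
  · show (i, e + d) = (X.pi 1 i, e + d)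
    rw [X.pi_one]
  · show edge (X.pi 1 i) (X.pi 1 j) ∧ kz (X.pi 1 i) (X.pi 1 j) = kz i j + d + d
    rw [X.pi_one, X.pi_one, add_assoc, add_self_z2, add_zero]
    exact ⟨h, rfl⟩

/-- The element shifting every fibre, in the cover. -/
def zel (d : Z2) : X.cover := ⟨X.zAmb d, X.zAmb_good d⟩

theorem nat_zel (d : Z2) : X.nat (X.zel d) = 1 := rfl

theorem f0_zel (d : Z2) : X.f0 (X.zel d) = d := zero_add d

theorem exists_gen (k : ℕ) (hk : k < 2) :
    ∃ g : X.cover, X.nat g = X.Ts (code (genInfo.getD k (0, 0, 0)).1).cs := by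
  have h : okEdges (genInfo.getD k (0, 0, 0)) = true := by
    rcases (show k = 0 ∨ k = 1 by omega) with rfl | rfl
    · exact okEdges_a
    · exact okEdges_b
  generalize genInfo.getD k (0, 0, 0) = q at h ⊢
  simp only [okEdges, Ru.force_eq, Bool.and_eq_true, Mathieu.allBelow_iff] at h
  obtain ⟨⟨hperm, -⟩, hedge⟩ := h
  set A := X.Ts (code q.1).cs with hA
  let f : Fin 672 → Z2 := fun i => kv (Nat.land (Nat.shiftRight q.2.2 (Nat.mul 2 i.val)) 3)
  have hbij : Function.Bijective (X.pi A) := by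
    refine Finite.injective_iff_bijective.1 fun i j e => ?_
    have := congrArg (X.pi A⁻¹) e
    rwa [← X.pi_mul, ← X.pi_mul, inv_mul_cancel, X.pi_one, X.pi_one] at this
  let σ : Equiv.Perm (Fin 672 × Z2) := Equiv.ofBijective (fun p => (X.pi A p.1, p.2 + f p.1))
    (Finite.injective_iff_bijective.1 fun p r e => by
      obtain ⟨e1, e2⟩ := Prod.ext_iff.1 e
      have e1' := hbij.1 e1
      simp only [e1'] at e2
      exact Prod.ext e1' (add_right_cancel e2))
  refine ⟨⟨(A, σ), f, fun i e => rfl, fun i j hij => ?_⟩, rfl⟩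
  have pe : ∀ t : Fin 672, Nat.land (Nat.shiftRight q.2.1 (Nat.mul 10 t.val)) 1023 = (X.pi A t).val :=
    fun t => by rw [hA, X.pi_code, Nat.eq_of_beq_eq_true (hperm t.val t.2)]
  have h2 := hedge i.val i.2 j.val j.2
  have hij' : Nat.beq (Nat.land (entry (row i.val) j.val) 1) 1 = true := hij
  rw [hij', cond_true, pe, pe] at h2
  simp only [Bool.and_eq_true] at h2
  refine ⟨h2.1, ?_⟩
  show kv (kap (X.pi A i).val (X.pi A j).val) = _
  rw [show kap (X.pi A i).val (X.pi A j).val = _ from Nat.eq_of_beq_eq_true h2.2, kv_xor, kv_xor]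
  rfl

end Ctx

end CfsgLib.USixMult
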