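import Cfsg.Agent.FischerTypes.U62Model
import Cfsg.Agent.Mathieu.Chain

/-!
The field with four elements as the numbers below four, vectors of the hermitian space of degree six
as numbers below 4096 (two bits for a coordinate), and transvections on them.
-/

set_option autoImplicit false
set_option linter.style.haveILetI false
set_option maxRecDepth 100000

namespace CfsgLib.USixMult

open Matrix CfsgLib.RepBounds.Unit

/-- The coordinate `i`. -/
def co (v i : ℕ) : ℕ := Nat.land (Nat.shiftRight v (Nat.mul 2 i)) 3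

/-- Product in the field with four elements. -/
def fmul (a b : ℕ) : ℕ :=
  Nat.land (Nat.shiftRight 0x9c78e400 (Nat.mul 2 (Nat.add (Nat.mul 4 a) b))) 3

/-- Multiplication of a vector by the primitive cube root of unity. -/
def wsm (v : ℕ) : ℕ :=
  Nat.lor (Nat.land (Nat.shiftRight v 1) 0x555)
    (Nat.shiftLeft (Nat.xor (Nat.land v 0x555) (Nat.land (Nat.shiftRight v 1) 0x555)) 1)

/-- Multiplication of a vector by a scalar. -/
def vsmul (a v : ℕ) : ℕ :=
  cond (Nat.beq a 0) 0 (cond (Nat.beq a 1) v (cond (Nat.beq a 2) (wsm v) (Nat.xor (wsm v) v)))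

/-- The square. -/
def fsq (a : ℕ) : ℕ := fmul a a

/-- The hermitian form. -/
def hc (u v : ℕ) : ℕ :=
  Nat.xor (Nat.xor (Nat.xor (fmul (co u 0) (fsq (co v 0))) (fmul (co u 1) (fsq (co v 1))))
    (Nat.xor (fmul (co u 2) (fsq (co v 2))) (fmul (co u 3) (fsq (co v 3)))))
    (Nat.xor (fmul (co u 4) (fsq (co v 4))) (fmul (co u 5) (fsq (co v 5))))

/-- The image of `x` under the transvection at `c`. -/
def tvc (c x : ℕ) : ℕ := Nat.xor x (vsmul (hc x c) c)

/-- The image of `x` under a product of transvections. -/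
def tvs (cs : List ℕ) (x : ℕ) : ℕ := cs.foldr tvc x

/-- The basis. -/
def bas (i : ℕ) : ℕ := Nat.shiftLeft 1 (Nat.mul 2 i)

/-- The checks on the codes of the scalar multiples and on coordinates. -/
def okVec : Bool :=
  Mathieu.allBelow 4096 fun v => Mathieu.allBelow 4 fun a =>
    Nat.blt (vsmul a v) 4096 && Mathieu.allBelow 6 fun i =>
      Nat.beq (co (vsmul a v) i) (fmul a (co v i))

/-- A vector is given by its coordinates. -/
def okCo : Bool :=
  Mathieu.allBelow 4096 fun v => Nat.beq v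
    (co v 0 + 4 * co v 1 + 16 * co v 2 + 64 * co v 3 + 256 * co v 4 + 1024 * co v 5)

theorem okVec_true : okVec = true := by decide +kernel

theorem okCo_true : okCo = true := by decide +kernel

theorem co_lt (v i : ℕ) : co v i < 4 :=
  Nat.lt_succ_of_le (show Nat.shiftRight v (Nat.mul 2 i) &&& 3 ≤ 3 from Nat.and_le_right)

theorem co_xor (a b i : ℕ) : co (Nat.xor a b) i = Nat.xor (co a i) (co b i) := by
  show ((a ^^^ b) >>> (2 * i)) &&& 3 = ((a >>> (2 * i)) &&& 3) ^^^ ((b >>> (2 * i)) &&& 3)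
  rw [Nat.shiftRight_xor_distrib, Nat.and_xor_distrib_right]

theorem fmul_lt (a b : ℕ) : fmul a b < 4 :=
  Nat.lt_succ_of_le (show Nat.shiftRight 0x9c78e400 _ &&& 3 ≤ 3 from Nat.and_le_right)

theorem xor_lt_four {a b : ℕ} (ha : a < 4) (hb : b < 4) : Nat.xor a b < 4 :=
  Nat.xor_lt_two_pow (n := 2) ha hb

theorem hc_lt (u v : ℕ) : hc u v < 4 :=
  xor_lt_four (xor_lt_four (xor_lt_four (fmul_lt _ _) (fmul_lt _ _))
    (xor_lt_four (fmul_lt _ _) (fmul_lt _ _))) (xor_lt_four (fmul_lt _ _) (fmul_lt _ _))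

theorem vsmul_spec {a v : ℕ} (ha : a < 4) (hv : v < 4096) :
    vsmul a v < 4096 ∧ ∀ i < 6, co (vsmul a v) i = fmul a (co v i) := by
  have h := okVec_true
  simp only [okVec, Mathieu.allBelow_iff, Bool.and_eq_true] at h
  obtain ⟨h1, h2⟩ := h v hv a ha
  exact ⟨Nat.le_of_ble_eq_true h1, fun i hi => Nat.eq_of_beq_eq_true (h2 i hi)⟩

theorem xor_lt {a b : ℕ} (ha : a < 4096) (hb : b < 4096) : Nat.xor a b < 4096 :=
  Nat.xor_lt_two_pow (n := 12) ha hb

theorem tvc_lt {c x : ℕ} (hc' : c < 4096) (hx : x < 4096) : tvc c x < 4096 :=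
  xor_lt hx (vsmul_spec (hc_lt x c) hc').1

theorem tvs_lt : ∀ {cs : List ℕ} {x : ℕ}, (∀ c ∈ cs, c < 4096) → x < 4096 → tvs cs x < 4096
  | [], _, _, hx => hx
  | c :: cs, _, h, hx =>
    tvc_lt (h c List.mem_cons_self) (tvs_lt (fun d hd => h d (List.mem_cons_of_mem _ hd)) hx)

universe u

/-- The hermitian space of degree six over the field with four elements. -/
structure Ctx (F : Type u) [Field F] [Fintype F] where
  /-- The conjugation. -/
  C : ConjField F
  hC : C.q = 2
  /-- A primitive cube root of unity. -/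
  w : F
  hw : w ^ 2 + w + 1 = 0

variable {F : Type u} [Field F] [Fintype F]

theorem exists_ctx (hF : Fintype.card F = 4) : Nonempty (Ctx F) := by
  obtain ⟨C, hC⟩ := exists_conjField 2 (hF.trans (by norm_num))
  obtain ⟨w, -, -, hw⟩ := U62.exists_omega C hC
  exact ⟨⟨C, hC, w, hw⟩⟩

namespace Ctx

variable (X : Ctx F)
include X

/-- The value of a code. -/
def fv (a : ℕ) : F := (if a.testBit 0 then 1 else 0) + (if a.testBit 1 then X.w else 0)

theorem two : (2 : F) = 0 := U62.two_eq_zero X.C X.hC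

theorem w_ne : X.w ≠ 0 ∧ X.w ≠ 1 := by
  constructor <;> intro h <;> have h' := X.hw <;> rw [h] at h'
  · norm_num at h'
  · exact one_ne_zero (α := F) (by linear_combination h' - X.two)

theorem fv_zero : X.fv 0 = 0 := by simp [fv]

theorem fv_one : X.fv 1 = 1 := by simp [fv, Nat.testBit_one_eq_true_iff_self_eq_zero]

theorem fv_two : X.fv 2 = X.w := by simp [fv, show (2 : ℕ).testBit 1 = true from rfl]

theorem fv_three : X.fv 3 = 1 + X.w := by
  simp [fv, show (3 : ℕ).testBit 1 = true from rfl, show (3 : ℕ).testBit 0 = true from rfl]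

theorem fv_xor {a b : ℕ} (ha : a < 4) (hb : b < 4) : X.fv (Nat.xor a b) = X.fv a + X.fv b := by
  have h2 := X.two
  interval_cases a <;> interval_cases b <;>
    simp only [show ∀ p q, Nat.xor p q = p ^^^ q from fun _ _ => rfl, Nat.reduceXor, X.fv_zero,
      X.fv_one, X.fv_two, X.fv_three] <;>
    first
      | ring1
      | linear_combination (-1 : F) * h2
      | linear_combination (-X.w) * h2
      | linear_combination (-1 - X.w) * h2

theorem fv_mul {a b : ℕ} (ha : a < 4) (hb : b < 4) : X.fv (fmul a b) = X.fv a * X.fv b := by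
  have h2 := X.two
  have hw := X.hw
  have tab : fmul a b = [0, 0, 0, 0, 0, 1, 2, 3, 0, 2, 3, 1, 0, 3, 1, 2].getD (4 * a + b) 0 := by
    have h : ∀ x < 4, ∀ y < 4,
        fmul x y = [0, 0, 0, 0, 0, 1, 2, 3, 0, 2, 3, 1, 0, 3, 1, 2].getD (4 * x + y) 0 := by
      decide +kernel
    exact h a ha b hb
  rw [tab]
  interval_cases a <;> interval_cases b <;>
    simp only [List.getD_cons_succ, List.getD_cons_zero, Nat.reduceMul, Nat.reduceAdd, X.fv_zero,
      X.fv_one, X.fv_two, X.fv_three] <;>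
    first
      | ring1
      | linear_combination -hw + (1 + X.w) * h2
      | linear_combination -hw + h2
      | linear_combination -hw + X.w * h2
      | linear_combination -hw

theorem sigma_fv {a : ℕ} (ha : a < 4) : X.C.σ (X.fv a) = X.fv (fsq a) := by
  rw [U62.sigma_eq X.C X.hC, fsq, X.fv_mul ha ha, pow_two]

theorem fv_ne_zero {a : ℕ} (ha : a < 4) (h0 : a ≠ 0) : X.fv a ≠ 0 := by
  obtain ⟨h, h'⟩ := X.w_ne
  interval_cases a
  · exact absurd rfl h0
  · rw [X.fv_one]; exact one_ne_zero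
  · rw [X.fv_two]; exact h
  · rw [X.fv_three]
    exact fun e => h' (by linear_combination e - X.two)

theorem fv_injective {a b : ℕ} (ha : a < 4) (hb : b < 4) (h : X.fv a = X.fv b) : a = b := by
  by_contra hne
  have hx : Nat.xor a b ≠ 0 := fun e => hne (Nat.xor_eq_zero_iff.1 e)
  refine X.fv_ne_zero (xor_lt_four ha hb) hx ?_
  rw [X.fv_xor ha hb, h, U62.add_self X.C X.hC]

theorem fv_surjective (x : F) : ∃ a < 4, X.fv a = x := by
  have hb : Function.Bijective (fun a : Fin 4 => X.fv a.val) :=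
    (Fintype.bijective_iff_injective_and_card _).2
      ⟨fun a b h => Fin.ext (X.fv_injective a.2 b.2 h), by simp [X.C.card, X.hC]⟩
  obtain ⟨a, ha⟩ := hb.2 x
  exact ⟨a.val, a.2, ha⟩

/-- The vector of a code. -/
def dec (v : ℕ) : Fin 6 → F := fun i => X.fv (co v i.val)

theorem dec_zero : X.dec 0 = 0 := by
  funext i
  simp [dec, co, X.fv_zero]

theorem dec_xor (a b : ℕ) : X.dec (Nat.xor a b) = X.dec a + X.dec b := by
  funext i
  show X.fv (co (Nat.xor a b) i) = X.fv (co a i) + X.fv (co b i)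
  rw [co_xor, X.fv_xor (co_lt a i) (co_lt b i)]

theorem dec_vsmul {a v : ℕ} (ha : a < 4) (hv : v < 4096) :
    X.dec (vsmul a v) = X.fv a • X.dec v := by
  funext i
  simp only [dec, Pi.smul_apply, smul_eq_mul, (vsmul_spec ha hv).2 i i.2]
  exact X.fv_mul ha (co_lt v i)

theorem dec_injective {u v : ℕ} (hu : u < 4096) (hv : v < 4096) (h : X.dec u = X.dec v) : u = v := by
  have hi : ∀ i < 6, co u i = co v i := fun i hi =>
    X.fv_injective (co_lt u i) (co_lt v i) (congrFun h ⟨i, hi⟩)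
  have h1 := okCo_true
  simp only [okCo, Mathieu.allBelow_iff] at h1
  rw [Nat.eq_of_beq_eq_true (h1 u hu), Nat.eq_of_beq_eq_true (h1 v hv)]
  simp only [hi 0 (by norm_num), hi 1 (by norm_num), hi 2 (by norm_num), hi 3 (by norm_num),
    hi 4 (by norm_num), hi 5 (by norm_num)]

theorem dec_surjective (x : Fin 6 → F) : ∃ v < 4096, X.dec v = x := by
  have hb : Function.Bijective (fun v : Fin 4096 => X.dec v.val) :=
    (Fintype.bijective_iff_injective_and_card _).2
      ⟨fun a b h => Fin.ext (X.dec_injective a.2 b.2 h), by simp [X.C.card, X.hC]⟩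
  obtain ⟨v, hv⟩ := hb.2 x
  exact ⟨v.val, v.2, hv⟩

/-- The code of a vector. -/
noncomputable def enc (x : Fin 6 → F) : ℕ := (X.dec_surjective x).choose

theorem enc_lt (x : Fin 6 → F) : X.enc x < 4096 := (X.dec_surjective x).choose_spec.1

theorem dec_enc (x : Fin 6 → F) : X.dec (X.enc x) = x := (X.dec_surjective x).choose_spec.2

theorem enc_dec {v : ℕ} (hv : v < 4096) : X.enc (X.dec v) = v :=
  X.dec_injective (X.enc_lt _) hv (X.dec_enc _)

theorem herm_dec (u v : ℕ) : herm X.C (X.dec u) (X.dec v) = X.fv (hc u v) := by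
  have h := fun i => fmul_lt (co u i) (fsq (co v i))
  have e : ∀ i, X.fv (fmul (co u i) (fsq (co v i))) = X.fv (co u i) * X.C.σ (X.fv (co v i)) :=
    fun i => by rw [X.sigma_fv (co_lt v i)]; exact X.fv_mul (co_lt u i) (fmul_lt (co v i) (co v i))
  rw [hc, X.fv_xor (xor_lt_four (xor_lt_four (h 0) (h 1)) (xor_lt_four (h 2) (h 3)))
      (xor_lt_four (h 4) (h 5)),
    X.fv_xor (xor_lt_four (h 0) (h 1)) (xor_lt_four (h 2) (h 3)), X.fv_xor (h 0) (h 1),
    X.fv_xor (h 2) (h 3), X.fv_xor (h 4) (h 5), e, e, e, e, e, e]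
  simp only [herm, Fin.sum_univ_six, dec]
  simp only [Fin.val_zero, Fin.val_one, Fin.val_two, show ((3 : Fin 6) : ℕ) = 3 from rfl,
    show ((4 : Fin 6) : ℕ) = 4 from rfl, show ((5 : Fin 6) : ℕ) = 5 from rfl]
  ring

theorem dec_bas : ∀ i : Fin 6, X.dec (bas i.val) = Pi.single i 1 := by
  intro i
  funext j
  have h : ∀ a < 6, ∀ b < 6, co (bas a) b = if b = a then 1 else 0 := by decide +kernel
  rw [dec, h i i.2 j j.2]
  by_cases hj : j = i
  · subst hj
    rw [if_pos rfl, X.fv_one, Pi.single_eq_same]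
  · rw [if_neg (fun e => hj (Fin.ext e)), X.fv_zero, Pi.single_eq_of_ne hj]

/-- The transvection at a vector. -/
noncomputable def T (c : ℕ) : suG X.C (Fin 6) := U62.tv X.C (X.dec c)

theorem herm_iso {c : ℕ} (h : hc c c = 0) : herm X.C (X.dec c) (X.dec c) = 0 := by
  rw [X.herm_dec, h, X.fv_zero]

theorem app_T {c x : ℕ} (hc' : c < 4096) (hiso : hc c c = 0) :
    app X.C (X.T c) (X.dec x) = X.dec (tvc c x) := by
  rw [T, U62.app_tv X.C X.hC (X.herm_iso hiso), X.herm_dec, tvc, X.dec_xor,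
    X.dec_vsmul (hc_lt x c) hc']

/-- A product of transvections. -/
noncomputable def Ts (cs : List ℕ) : suG X.C (Fin 6) := (cs.map X.T).prod

theorem app_Ts : ∀ {cs : List ℕ}, (∀ c ∈ cs, c < 4096 ∧ hc c c = 0) → ∀ x : ℕ,
    app X.C (X.Ts cs) (X.dec x) = X.dec (tvs cs x)
  | [], _, x => by simp [Ts, tvs, app_one]
  | c :: cs, h, x => by
    rw [Ts, List.map_cons, List.prod_cons, app_mul]
    show app X.C (X.T c) (app X.C (X.Ts cs) (X.dec x)) = _
    rw [app_Ts (fun d hd => h d (List.mem_cons_of_mem _ hd)) x,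
      X.app_T (h c List.mem_cons_self).1 (h c List.mem_cons_self).2]
    rfl

theorem ext_bas {g h : suG X.C (Fin 6)}
    (e : ∀ i < 6, app X.C g (X.dec (bas i)) = app X.C h (X.dec (bas i))) : g = h := by
  apply Subtype.ext
  apply Subtype.ext
  ext i j
  have := congrFun (e j.val j.2) i
  rw [X.dec_bas j] at this
  simpa [app, Matrix.mulVec_single_one] using this

end Ctx

end CfsgLib.USixMult
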