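import Cfsg.Agent.USixMult.Words
import Cfsg.Agent.USixMult.Checks
import Cfsg.Agent.Forms4.UnitaryCenter
import Cfsg.Agent.Schur.Basic
import Cfsg.Agent.Schur.PcPerm

/-!
The fourfold cover of `SU₆(2)` has no nontrivial stem extension.
-/

set_option autoImplicit false
set_option linter.style.haveILetI false
set_option maxRecDepth 100000

namespace CfsgLib.USixMult

open Matrix CfsgLib.RepBounds.Unit
open CfsgLib.Schur.Pc (ev tailSubgroup)

universe u

variable {F : Type u} [Field F] [Fintype F]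

namespace Ctx

variable (X : Ctx F)
include X

theorem card_su : Nat.card (suG X.C (Fin 6)) = 27590492160 := by
  rw [suG_fin_eq]
  have h1 := Forms4.card_SU_mul_GU (n := 6) X.C.card (by norm_num)
  rw [Forms.card_GU X.C.card, X.hC] at h1
  simp only [Finset.sum_range_succ, Finset.sum_range_zero, Finset.prod_range_succ,
    Finset.prod_range_zero, Forms.u] at h1
  norm_num [Nat.even_iff] at h1
  rw [X.hC]
  omega

theorem nat_eq_one {g : X.cover} (h : X.nat g = 1) : g = X.zel (X.f0 g) :=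
  X.cover_ext (by rw [h, X.nat_zel]) (by rw [X.f0_zel])

theorem card_ker : Nat.card X.nat.ker = 4 := by
  let e : X.nat.ker ≃ Z2 :=
    { toFun := fun g => X.f0 g.1
      invFun := fun d => ⟨X.zel d, X.nat_zel d⟩
      left_inv := fun g => Subtype.ext (X.nat_eq_one g.2).symm
      right_inv := fun d => X.f0_zel d }
  rw [Nat.card_congr e, Nat.card_prod, Nat.card_zmod]

theorem card_cover : Nat.card X.cover = 110361968640 := by
  have h := Subgroup.card_mul_index X.nat.ker
  rw [Subgroup.index_ker, MonoidHom.range_eq_top.2 X.nat_surjective, Subgroup.card_top, X.card_ker,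
    X.card_su] at h
  exact h.symm

/-- The generators of the Sylow 2-subgroup. -/
noncomputable def y2 (i : ℕ) : X.cover := X.el (y2n i)

/-- The generators of the Sylow 3-subgroup. -/
noncomputable def y3 (i : ℕ) : X.cover := X.el (y3n i)

theorem ev_y2 (u : List ℕ) : ev X.y2 u = ev X.el (u.map y2n) := by
  simp only [Schur.Pc.ev, List.map_map]
  rfl

theorem ev_y3 (u : List ℕ) : ev X.y3 u = ev X.el (u.map y3n) := by
  simp only [Schur.Pc.ev, List.map_map]
  rfl

theorem rules2 : ∀ q ∈ cert2.rules, ev X.y2 q.1 = ev X.y2 q.2 := by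
  intro q hq
  have h := okTwo_true
  simp only [okTwo, Bool.and_eq_true, List.all_eq_true] at h
  rw [X.ev_y2, X.ev_y2]
  exact X.ev_eq_of_weq (h.1 q hq)

theorem y2_not_mem {i : ℕ} (hi : i < 15) : X.y2 i ∉ tailSubgroup X.y2 17 (i + 1) := by
  have h := okSep_all i hi
  simp only [okSepAt, Bool.and_eq_true, List.all_eq_true, decide_eq_true_eq, Bool.not_eq_true',
    decide_eq_false_iff_not, List.mem_range] at h
  obtain ⟨⟨⟨hv, hlt⟩, hout⟩, hcl⟩ := h
  generalize sepData.getD i (0, []) = d at hv hlt hout hcl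
  intro hmem
  have key : ∀ g ∈ tailSubgroup X.y2 17 (i + 1), ∀ o ∈ d.2,
      ∃ o' ∈ d.2, app X.C (X.nat g) (X.dec o) = X.dec o' := by
    intro g hg
    have hg' : g ∈ (tailSubgroup X.y2 17 (i + 1)).toSubmonoid := hg
    rw [tailSubgroup, Subgroup.closure_toSubmonoid_of_finite] at hg'
    clear hg
    induction hg' using Submonoid.closure_induction with
    | mem x hx =>
      obtain ⟨j, ⟨hj1, hj2⟩, rfl⟩ := hx
      intro o ho
      have h1 := hcl (j - (i + 1)) (by omega) o ho
      rw [show i + 1 + (j - (i + 1)) = j by omega] at h1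
      refine ⟨_, h1, ?_⟩
      rw [y2, el, X.nat_elt]
      exact (X.app_code _ (Nat.le_of_ble_eq_true (hlt o ho))).1
    | one => exact fun o ho => ⟨o, ho, by rw [map_one, app_one]⟩
    | mul a b _ _ ha hb =>
      intro o ho
      obtain ⟨o1, ho1, e1⟩ := hb o ho
      obtain ⟨o2, ho2, e2⟩ := ha o1 ho1
      exact ⟨o2, ho2, by rw [map_mul, app_mul, e1, e2]⟩
  obtain ⟨o', ho', e⟩ := key _ hmem d.1 hv
  have hc := X.app_code (y2n i) (Nat.le_of_ble_eq_true (hlt _ hv))
  rw [y2, el, X.nat_elt, hc.1] at e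
  exact hout (X.dec_injective hc.2 (Nat.le_of_ble_eq_true (hlt _ ho')) e ▸ ho')

theorem card_sylow2 : Nat.card (tailSubgroup X.y2 17 0) = 2 ^ 17 := by
  have hne : ∀ u v : List ℕ, wkey (u.map y2n) ≠ wkey (v.map y2n) → ev X.y2 u ≠ ev X.y2 v := by
    intro u v h e
    rw [X.ev_y2, X.ev_y2] at e
    exact h (Nat.eq_of_beq_eq_true (X.weq_of_ev_eq e))
  have hstep : ∀ i, i < 17 → X.y2 i ∉ tailSubgroup X.y2 17 (i + 1) := by
    intro i hi
    rcases Nat.lt_or_ge i 15 with h | h
    · exact X.y2_not_mem h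
    obtain ⟨h15, h16, hne'⟩ := z_keys
    rcases (show i = 15 ∨ i = 16 by omega) with rfl | rfl
    · intro hmem
      have hz : tailSubgroup X.y2 17 (15 + 1) ≤ Subgroup.zpowers (X.y2 16) := by
        rw [tailSubgroup, Subgroup.closure_le]
        rintro _ ⟨j, ⟨hj1, hj2⟩, rfl⟩
        obtain rfl : j = 16 := by omega
        exact Subgroup.mem_zpowers _
      have hsq : X.y2 16 ^ 2 = 1 := by
        have hq : ([16, 16], ([] : List ℕ)) ∈ cert2.rules := by decide +kernel
        simpa [Schur.Pc.ev, pow_two] using X.rules2 _ hq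
      obtain ⟨k, hk⟩ : ∃ k : ℕ, X.y2 16 ^ k = X.y2 15 :=
        mem_powers_iff_mem_zpowers.2 (hz hmem)
      rcases Nat.mod_two_eq_zero_or_one k with h2 | h2
      · refine hne [15] [] h15 ?_
        rw [← Nat.div_add_mod k 2, h2, add_zero, pow_mul, hsq, one_pow] at hk
        simpa [Schur.Pc.ev] using hk.symm
      · refine hne [15] [16] hne' ?_
        rw [← Nat.div_add_mod k 2, h2, pow_add, pow_mul, hsq, one_pow, one_mul, pow_one] at hk
        simpa [Schur.Pc.ev] using hk.symm
    · intro hmem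
      have hz : tailSubgroup X.y2 17 (16 + 1) ≤ ⊥ := by
        rw [tailSubgroup, Subgroup.closure_le]
        rintro _ ⟨j, ⟨hj1, hj2⟩, rfl⟩
        omega
      exact hne [16] [] h16 (by simpa [Schur.Pc.ev] using Subgroup.mem_bot.1 (hz hmem))
  refine le_antisymm (Schur.Pc.card_tailSubgroup_le X.y2 cert2_shaped X.rules2 17 0 rfl) ?_
  have key : ∀ d i, i + d = 17 → 2 ^ d ≤ Nat.card (tailSubgroup X.y2 17 i) := by
    intro d
    induction d with
    | zero => intro i _; exact Nat.card_pos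
    | succ d ih =>
      intro i hid
      have h1 := ih (i + 1) (by omega)
      have hle : tailSubgroup X.y2 17 (i + 1) ≤ tailSubgroup X.y2 17 i := by
        rw [tailSubgroup, Subgroup.closure_le]
        rintro _ ⟨j, ⟨hj1, hj2⟩, rfl⟩
        exact Schur.Pc.gen_mem_tailSubgroup X.y2 (by omega) hj2
      obtain ⟨m, hm⟩ := Subgroup.card_dvd_of_le hle
      have hm2 : 2 ≤ m := by
        by_contra hcon
        have hm0 : m ≠ 0 := fun e => by
          rw [e, mul_zero] at hm; exact Nat.card_pos.ne' hm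
        obtain rfl : m = 1 := by omega
        rw [mul_one] at hm
        refine hstep i (by omega) ?_
        rw [Subgroup.eq_of_le_of_card_ge hle hm.le]
        exact Schur.Pc.gen_mem_tailSubgroup X.y2 (le_refl i) (by omega)
      rw [hm, pow_succ]
      exact Nat.mul_le_mul h1 hm2
  exact key 17 0 rfl

theorem two_part {Δ : Type u} [Group Δ] [Finite Δ] (σ : Δ →* X.cover)
    (hσ : Cfsg.IsStemExtension σ) (hexp : ∀ z ∈ σ.ker, z ^ 2 = 1) : σ.ker = ⊥ := by
  have h := okTwo_true
  simp only [okTwo, Bool.and_eq_true, List.all_eq_true, List.mem_range] at h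
  obtain ⟨-, hfus⟩ := h
  refine Schur.TwoWide.Cert.ker_eq_bot cert2 σ hσ hexp cert2_eqs cert2_lin X.y2 ?_ ?_ ?_ ?_
  · intro a b hab hb
    have hq : ([b, a], cert2.rule b a) ∈ cert2.rules := by
      simp only [Schur.TwoWide.Cert.rules, List.mem_flatMap, List.mem_map, List.mem_range]
      exact ⟨b, hb, a, Nat.lt_succ_of_le hab, rfl⟩
    simpa [Schur.Pc.ev] using X.rules2 _ hq
  · intro f hf
    obtain ⟨i, hi, rfl⟩ := List.getElem_of_mem hf
    refine ⟨X.el (gs2.getD i 99), fun s hs => ?_⟩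
    have e := X.ev_eq_of_weq (hfus i hi s hs)
    rw [show fus2.getD i ([], []) = cert2.fus[i] from List.getD_eq_getElem _ _ hi, Schur.Pc.ev_cons,
      Schur.Pc.ev_append, Schur.Pc.ev_cons, Schur.Pc.ev_nil, mul_one, ← X.ev_y2, ← X.ev_y2] at e
    rw [mul_inv_eq_iff_eq_mul]
    exact e
  · rw [show cert2.n = 17 from rfl, X.card_sylow2]
  · rw [show cert2.n = 17 from rfl]
    intro hd
    have h := Subgroup.index_mul_card (tailSubgroup X.y2 17 0)
    rw [X.card_sylow2, X.card_cover] at h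
    norm_num at h
    omega

theorem three_part {Δ : Type u} [Group Δ] [Finite Δ] (σ : Δ →* X.cover)
    (hσ : Cfsg.IsStemExtension σ) (hexp : ∀ z ∈ σ.ker, z ^ 3 = 1) : σ.ker = ⊥ := by
  have h := okThree_true
  simp only [okThree, Bool.and_eq_true, List.all_eq_true, List.mem_range] at h
  obtain ⟨⟨hrules, -⟩, hfus⟩ := h
  have hr : ∀ q ∈ cert3.rules, ev X.y3 q.1 = ev X.y3 q.2 := fun q hq => by
    rw [X.ev_y3, X.ev_y3]
    exact X.ev_eq_of_weq (hrules q hq)
  have hcard : 3 ^ 7 ≤ Nat.card (tailSubgroup X.y3 7 0) := by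
    refine Schur.Pc.le_card_of_nodup (fun g => X.key g % mod3) 3 7 X.y3 ?_
    simp only [X.ev_y3, X.key_ev]
    exact (CoverTab.nodupMask_sound _ 0 keys3).1
  refine cert3.ker_eq_bot σ hσ (show Nat.Prime cert3.p from Nat.prime_three) hexp cert3_check X.y3
    hr ?_ hcard ?_
  · intro f hf
    obtain ⟨i, hi, rfl⟩ := List.getElem_of_mem hf
    refine ⟨X.el (gs3.getD i 99), fun s hs => ?_⟩
    have e := X.ev_eq_of_weq (hfus i hi s hs)
    rw [List.getD_eq_getElem _ _ hi, Schur.Pc.ev_cons, Schur.Pc.ev_append, Schur.Pc.ev_cons,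
      Schur.Pc.ev_nil, mul_one, ← X.ev_y3, ← X.ev_y3] at e
    rw [mul_inv_eq_iff_eq_mul]
    exact e
  · have hshape : Schur.Pc.shaped 3 7 cert3.rules = true := by
      have h := cert3_check
      simp only [Schur.Pc.Cert.check, Bool.and_eq_true] at h
      exact h.1.1
    have hT : Nat.card (tailSubgroup X.y3 7 0) = 2187 := by
      have h1 := Schur.Pc.card_tailSubgroup_le X.y3 hshape hr 7 0 rfl
      norm_num at h1 hcard
      omega
    intro hd
    have h := Subgroup.index_mul_card (tailSubgroup X.y3 7 0)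
    rw [hT, X.card_cover] at h
    change 3 ∣ (tailSubgroup X.y3 7 0).index at hd
    omega

theorem prime_part {p : ℕ} (hp : p.Prime) {s : ℕ} (hok : okPrime p s = true) {m : ℕ}
    (hm : 110361968640 = p * m) (hmp : ¬ p ∣ m) {Δ : Type u} [Group Δ] [Finite Δ]
    (σ : Δ →* X.cover) (hσ : Cfsg.IsStemExtension σ) (hexp : ∀ z ∈ σ.ker, z ^ p = 1) :
    σ.ker = ⊥ := by
  haveI : Fact p.Prime := ⟨hp⟩
  simp only [okPrime, Bool.and_eq_true, Bool.not_eq_true'] at hok
  have hpow : X.el s ^ p = 1 := by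
    have e := X.ev_eq_of_weq hok.1
    rwa [Schur.Pc.ev_replicate, Schur.Pc.ev_nil] at e
  have hne : X.el s ≠ 1 := fun e => by
    have h2 := X.weq_of_ev_eq (u := [s]) (v := []) (by simpa [Schur.Pc.ev] using e)
    exact Bool.noConfusion (hok.2.symm.trans h2)
  refine Schur.ker_eq_bot_of_index_zpowers hp (X.el s) ?_ σ hσ hexp
  have h := Subgroup.index_mul_card (Subgroup.zpowers (X.el s))
  rw [Nat.card_zpowers, orderOf_eq_prime hpow hne, X.card_cover, hm, Nat.mul_comm] at h
  rwa [Nat.eq_of_mul_eq_mul_left hp.pos h]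

theorem cover_no_stem {Δ : Type u} [Group Δ] [Finite Δ] (σ : Δ →* X.cover)
    (hσ : Cfsg.IsStemExtension σ) : σ.ker = ⊥ := by
  by_contra hne
  obtain ⟨p, hp, hdvd⟩ := Nat.exists_prime_and_dvd
    (fun h : Nat.card σ.ker = 1 => hne (Subgroup.eq_bot_of_card_eq _ h))
  haveI : Fact p.Prime := ⟨hp⟩
  refine Schur.not_dvd_card_ker_of_exponent_p (G := X.cover) (p := p) ?_ σ hσ hdvd
  intro Γ _ _ ρ hρ hexp
  have hd := Schur.prime_dvd_card_of_dvd_card_ker σ hσ hdvd
  rw [X.card_cover, show 110361968640 = 2 ^ 17 * (3 ^ 7 * (5 * (7 * 11))) by norm_num] at hd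
  simp only [hp.dvd_mul] at hd
  obtain ⟨h5, h7, h11⟩ := okPrime_all
  rcases hd with h | h | h | h | h
  · obtain rfl := (Nat.prime_dvd_prime_iff_eq hp Nat.prime_two).1 (hp.dvd_of_dvd_pow h)
    exact X.two_part ρ hρ hexp
  · obtain rfl := (Nat.prime_dvd_prime_iff_eq hp Nat.prime_three).1 (hp.dvd_of_dvd_pow h)
    exact X.three_part ρ hρ hexp
  · obtain rfl := (Nat.prime_dvd_prime_iff_eq hp Nat.prime_five).1 h
    exact X.prime_part hp h5 (m := 22072393728) (by norm_num) (by norm_num) ρ hρ hexp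
  · obtain rfl := (Nat.prime_dvd_prime_iff_eq hp (by norm_num)).1 h
    exact X.prime_part hp h7 (m := 15765995520) (by norm_num) (by norm_num) ρ hρ hexp
  · obtain rfl := (Nat.prime_dvd_prime_iff_eq hp (by norm_num)).1 h
    exact X.prime_part hp h11 (m := 10032906240) (by norm_num) (by norm_num) ρ hρ hexp

end Ctx

end CfsgLib.USixMult
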