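import Cfsg.Agent.USixMult.Cover
import Cfsg.Agent.Schur.Collect

/-!
The cover maps onto `SU₆(2)`; words in coded elements and their keys.
-/

set_option autoImplicit false
set_option linter.style.haveILetI false
set_option maxRecDepth 100000

namespace CfsgLib.USixMult

open Matrix CfsgLib.RepBounds.Unit
open CfsgLib.Schur.Pc (ev)

/-- The image of a vector under a word. -/
def imgW : List ℕ → ℕ → ℕ
  | [], v => v
  | s :: w, v => img (code s) (imgW w v)

theorem state_fst : ∀ w, (state w).1 = [1, 4, 16, 64, 256, 1024].map (imgW w) ∧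
    (state w).2.1 = imgW w (rep 0)
  | [] => ⟨by simp [state, imgW], rfl⟩
  | s :: w => by
    obtain ⟨h1, h2⟩ := state_fst w
    refine ⟨?_, ?_⟩
    · simp only [state, step, h1, List.map_map]
      rfl
    · simp only [state, step, h2, imgW]

theorem state_getD (w : List ℕ) {i : ℕ} (hi : i < 6) : (state w).1.getD i 0 = imgW w (bas i) := by
  rw [(state_fst w).1]
  interval_cases i <;> rfl

theorem bas_lt {i : ℕ} (hi : i < 6) : bas i < 4096 := by interval_cases i <;> decide

theorem tree_spec {k : ℕ} (hk : k < 693) : orbv k < 4096 ∧ hc (orbv k) (orbv k) = 0 ∧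
    (k = 0 ∨ (parPt k < k ∧ ∃ a, 0 < a ∧ a < 4 ∧
      orbv k = vsmul a (img (code (parGen k)) (orbv (parPt k))))) := by
  have h := okTree_true
  simp only [okTree, Mathieu.allBelow_iff, Bool.and_eq_true, Bool.or_eq_true, List.any_eq_true] at h
  obtain ⟨⟨h1, h2⟩, h3⟩ := h k hk
  refine ⟨Nat.le_of_ble_eq_true h1, Nat.eq_of_beq_eq_true h2, ?_⟩
  rcases h3 with h3 | ⟨h3, a, ha, e⟩
  · exact Or.inl (Nat.eq_of_beq_eq_true h3)
  · refine Or.inr ⟨Nat.le_of_ble_eq_true h3, a, ?_, ?_, Nat.eq_of_beq_eq_true e⟩ <;>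
      (simp only [List.mem_cons, List.not_mem_nil, or_false] at ha; omega)

/-- The code of an element of the fibre. -/
noncomputable def dcode (z : Z2) : ℕ := (kv_surjective z).choose

theorem phi_lt (s : ℕ) (y : ℕ) : phi (code s) y < 4 := by
  have hk : ∀ i j, kap i j < 4 := fun i j => by
    show Nat.shiftRight (entry (row i) j) 1 < 4
    have : entry (row i) j ≤ 7 :=
      show Nat.shiftRight (row i) (Nat.mul 3 j) &&& 7 ≤ 7 from Nat.and_le_right
    show entry (row i) j >>> 1 < 4
    rw [Nat.shiftRight_eq_div_pow]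
    omega
  have hc4 : (code s).c < 4 := by
    have h := code_ok s
    simp only [okCode, Bool.and_eq_true] at h
    exact Nat.le_of_ble_eq_true h.1.2
  unfold phi
  cases Nat.beq y 0 <;> simp only [cond_true, cond_false]
  · cases adjB 0 y <;> simp only [cond_true, cond_false]
    · exact xor_lt_four (xor_lt_four hc4 (xor_lt_four (hk _ _) (hk _ _)))
        (xor_lt_four (hk _ _) (hk _ _))
    · exact xor_lt_four hc4 (xor_lt_four (hk _ _) (hk _ _))
  · exact hc4

theorem state_shift_lt : ∀ w, (state w).2.2 < 4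
  | [] => by show (0 : ℕ) < 4; omega
  | s :: w => xor_lt_four (state_shift_lt w) (phi_lt s _)

universe u

variable {F : Type u} [Field F] [Fintype F]

namespace Ctx

variable (X : Ctx F)
include X

/-- The linear map of a word. -/
noncomputable def wmap (w : List ℕ) : suG X.C (Fin 6) := (w.map fun s => X.Ts (code s).cs).prod

theorem app_wmap : ∀ (w : List ℕ) {v : ℕ}, v < 4096 →
    app X.C (X.wmap w) (X.dec v) = X.dec (imgW w v) ∧ imgW w v < 4096
  | [], v, hv => ⟨by simp [wmap, imgW, app_one], hv⟩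
  | s :: w, v, hv => by
    obtain ⟨h1, h2⟩ := app_wmap w hv
    rw [wmap, List.map_cons, List.prod_cons, app_mul]
    show app X.C _ (app X.C (X.wmap w) (X.dec v)) = _ ∧ _
    rw [h1, (X.app_code s h2).1]
    exact ⟨rfl, (X.app_code s h2).2⟩

theorem exists_lift_gens : ∀ w : List ℕ, (∀ s ∈ w, s < 2) → ∃ g : X.cover, X.nat g = X.wmap w
  | [], _ => ⟨1, by rw [map_one]; rfl⟩
  | s :: w, h => by
    obtain ⟨g, hg⟩ := exists_lift_gens w fun t ht => h t (List.mem_cons_of_mem _ ht)
    have hs : s < 2 := h s List.mem_cons_self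
    obtain ⟨a, ha⟩ := X.exists_gen s hs
    have he : (genInfo.getD s (0, 0, 0)).1 = s := by
      rcases (show s = 0 ∨ s = 1 by omega) with rfl | rfl <;> rfl
    rw [he] at ha
    exact ⟨a * g, by rw [map_mul, ha, hg]; rfl⟩

theorem exists_lift_T : ∀ k, k < 693 → ∃ g : X.cover, X.nat g = X.T (orbv k) := by
  intro k
  induction k using Nat.strong_induction_on with
  | _ k ih =>
    intro hk
    obtain ⟨hlt, hiso, hpar⟩ := tree_spec hk
    rcases hpar with rfl | ⟨hp, a, ha0, ha4, e⟩
    · have hw : ∀ s ∈ t0Word, s < 2 := by decide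
      obtain ⟨g, hg⟩ := X.exists_lift_gens t0Word hw
      refine ⟨g, hg.trans (X.ext_bas fun i hi => ?_)⟩
      have h := t0_img
      simp only [Mathieu.allBelow_iff] at h
      rw [(X.app_wmap _ (bas_lt hi)).1, X.app_T hlt hiso, ← state_getD _ hi,
        Nat.eq_of_beq_eq_true (h i hi)]
    · obtain ⟨hplt, hpiso, -⟩ := tree_spec (lt_trans hp hk)
      obtain ⟨t, ht⟩ := ih _ hp (lt_trans hp hk)
      have hgen : parGen k < 2 := Nat.lt_succ_of_le
        (show Nat.land (Nat.shiftRight parTab (Nat.mul 11 k)) 2047 &&& 1 ≤ 1 from Nat.and_le_right)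
      obtain ⟨g, hg⟩ := X.exists_gen _ hgen
      have he : ∀ s < 2, (genInfo.getD s (0, 0, 0)).1 = s := by
        intro s hs
        rcases (show s = 0 ∨ s = 1 by omega) with rfl | rfl <;> rfl
      rw [he _ hgen] at hg
      refine ⟨g * t * g⁻¹, ?_⟩
      rw [map_mul, map_mul, map_inv, hg, ht, T, U62.conj_tv X.C X.hC _ (X.herm_iso hpiso),
        (X.app_code _ hplt).1]
      have hi := (X.app_code (parGen k) hplt).2
      rw [T, e, X.dec_vsmul ha4 hi, U62.tv_smul X.C X.hC (X.fv_ne_zero ha4 (Nat.pos_iff_ne_zero.1 ha0))]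
      rw [← (X.app_code _ hplt).1, herm_app]
      exact X.herm_iso hpiso

theorem nat_surjective : Function.Surjective X.nat := by
  rw [← MonoidHom.range_eq_top, eq_top_iff,
    ← transvs_eq_top X.C (ι := Fin 6) (by simp), transvs, Subgroup.closure_le]
  rintro t ⟨v, c, hv, hcs, ht⟩
  by_cases hv0 : v = 0
  · have : t = 1 := suG_ext X.C fun x => by rw [ht x, hv0, smul_zero, add_zero, app_one]
    rw [this]; exact one_mem _
  by_cases hc0 : c = 0
  · have : t = 1 := suG_ext X.C fun x => by rw [ht x, hc0, zero_mul, zero_smul, add_zero, app_one]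
    rw [this]; exact one_mem _
  have hc1 : c = 1 := U62.eq_one_of_fixed X.C X.hC (by
    rw [X.C.skew_eq hcs, U62.neg_eq X.C X.hC]) hc0
  subst hc1
  have et : t = U62.tv X.C v := IsTransv.unique X.C ht (U62.isTransv_tv X.C X.hC hv)
  obtain ⟨u, hu, rfl⟩ := X.dec_surjective v
  have hiso : hc u u = 0 := by
    rw [X.herm_dec, ← X.fv_zero] at hv
    exact X.fv_injective (hc_lt u u) (by norm_num) hv
  have h := okIso_true
  simp only [okIso, Mathieu.allBelow_iff] at h
  have h' := h u hu
  rw [hiso, show Nat.beq 0 0 = true from rfl, cond_true] at h'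
  simp only [Bool.or_eq_true, Bool.and_eq_true, List.any_eq_true] at h'
  rcases h' with h' | ⟨hk, a, ha, e⟩
  · exact absurd (by rw [Nat.eq_of_beq_eq_true h', X.dec_zero]) hv0
  have hk' : isoIdx u < 693 := Nat.le_of_ble_eq_true hk
  obtain ⟨g, hg⟩ := X.exists_lift_T _ hk'
  obtain ⟨hlt, hoiso, -⟩ := tree_spec hk'
  have ha4 : 0 < a ∧ a < 4 := by
    simp only [List.mem_cons, List.not_mem_nil, or_false] at ha; omega
  refine ⟨g, ?_⟩
  have hu' : X.dec u = X.fv a • X.dec (orbv (isoIdx u)) :=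
    (congrArg X.dec (Nat.eq_of_beq_eq_true e)).trans (X.dec_vsmul ha4.2 hlt)
  rw [et, hg, T, hu',
    U62.tv_smul X.C X.hC (X.fv_ne_zero ha4.2 (Nat.pos_iff_ne_zero.1 ha4.1)) (X.herm_iso hoiso)]

theorem exists_el (A : suG X.C (Fin 6)) (d : Z2) : ∃ g : X.cover, X.nat g = A ∧ X.f0 g = d := by
  obtain ⟨g, hg⟩ := X.nat_surjective A
  obtain ⟨fg, h0, -, e⟩ := X.f0_mul (X.zel (d + X.f0 g)) g
  refine ⟨X.zel (d + X.f0 g) * g, by rw [map_mul, X.nat_zel, one_mul, hg], ?_⟩
  have hz : ∀ (d : Z2) (i : Fin 672), ((X.zel d).1.2 (i, 0)) = (i, d) := fun d i =>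
    Prod.ext rfl (zero_add d)
  show (((X.zel (d + X.f0 g)).1 * g.1).2 (0, 0)).2 = d
  rw [Prod.snd_mul, Equiv.Perm.mul_apply]
  obtain ⟨f, hf, -⟩ := g.2
  have hg0 : X.f0 g = f 0 := by show (g.1.2 (0, 0)).2 = _; rw [hf, zero_add]
  rw [hf, hg0]
  show (0 : Z2) + f 0 + (d + f 0) = d
  rw [zero_add, add_left_comm, add_self_z2, add_zero]

/-- The element with given linear map and shift. -/
noncomputable def elt (A : suG X.C (Fin 6)) (d : Z2) : X.cover := (X.exists_el A d).choose

theorem nat_elt (A : suG X.C (Fin 6)) (d : Z2) : X.nat (X.elt A d) = A :=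
  (X.exists_el A d).choose_spec.1

theorem f0_elt (A : suG X.C (Fin 6)) (d : Z2) : X.f0 (X.elt A d) = d :=
  (X.exists_el A d).choose_spec.2

theorem elt_eq (g : X.cover) : X.elt (X.nat g) (X.f0 g) = g :=
  X.cover_ext (X.nat_elt _ _) (X.f0_elt _ _)

/-- A coded element of the cover. -/
noncomputable def el (s : ℕ) : X.cover := X.elt (X.Ts (code s).cs) (kv (code s).c)

theorem nat_ev : ∀ w : List ℕ, X.nat (ev X.el w) = X.wmap w
  | [] => map_one _
  | s :: w => by rw [Schur.Pc.ev_cons, map_mul, nat_ev w, el, X.nat_elt]; rfl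

theorem pi_wmap (w : List ℕ) : (X.pi (X.wmap w) 0).val = idx (imgW w (rep 0)) := by
  show idx (X.enc (app X.C _ (X.rv 0))) = _
  have h := X.app_wmap w (X.rep_spec 0).1
  rw [rv, h.1, X.enc_dec h.2]
  rfl

theorem shift_code {g : X.cover} {s : ℕ} {fg : Fin 672 → Z2} (hn : X.nat g = X.Ts (code s).cs)
    (h0 : fg 0 = kv (code s).c)
    (hfe : ∀ i j, edge i j → edge (X.pi (X.nat g) i) (X.pi (X.nat g) j) ∧
      kz (X.pi (X.nat g) i) (X.pi (X.nat g) j) = kz i j + fg i + fg j) (y : Fin 672) :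
    fg y = kv (phi (code s) y.val) := by
  have hp : ∀ i, (X.pi (X.nat g) i).val = pt (code s) i.val := fun i => by rw [hn, X.pi_code]
  have key : ∀ i j, edge i j →
      fg j = fg i + kv (Nat.xor (kap i.val j.val) (kap (pt (code s) i.val) (pt (code s) j.val))) := by
    intro i j h
    rw [X.shift_formula (g := g.1) hfe h, kv_xor, ← hp, ← hp]
    rfl
  by_cases hy : y = 0
  · subst hy; exact h0
  have hy' : Nat.beq y.val 0 = false := Bool.eq_false_iff.2 fun e =>
    hy (Fin.ext (Nat.eq_of_beq_eq_true e))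
  by_cases he : edge 0 y
  · rw [key 0 y he, h0, phi, hy', cond_false, show adjB 0 y.val = true from he, cond_true]
    simp only [kv_xor, Fin.val_zero]
  · have he' : adjB 0 y.val = false := Bool.eq_false_iff.2 he
    rcases X.mid_spec y with h | h | ⟨hm, h1, h2⟩
    · exact absurd h hy
    · exact absurd h he
    · rw [key _ y h2, key 0 _ h1, h0, phi, hy', cond_false, he', cond_false]
      simp only [kv_xor, Fin.val_zero]

theorem f0_ev : ∀ w : List ℕ, X.f0 (ev X.el w) = kv (state w).2.2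
  | [] => rfl
  | s :: w => by
    rw [Schur.Pc.ev_cons]
    obtain ⟨fg, h0, hfe, e⟩ := X.f0_mul (X.el s) (ev X.el w)
    rw [e, f0_ev w, X.shift_code (s := s) (X.nat_elt _ _) (h0.trans (X.f0_elt _ _)) hfe,
      state, step, kv_xor, X.nat_ev, X.pi_wmap, (state_fst w).2]

/-- The key of an element of the cover. -/
noncomputable def key (g : X.cover) : ℕ :=
  keyOf ([1, 4, 16, 64, 256, 1024].map (fun b => X.enc (app X.C (X.nat g) (X.dec b))), rep 0,
    dcode (X.f0 g))

theorem key_ev (w : List ℕ) : X.key (ev X.el w) = wkey w := by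
  have hd : dcode (X.f0 (ev X.el w)) = (state w).2.2 := by
    rw [X.f0_ev]
    exact kv_injective _ (kv_surjective _).choose_spec.1 _ (state_shift_lt w)
      (kv_surjective _).choose_spec.2
  have hl : [1, 4, 16, 64, 256, 1024].map (fun b => X.enc (app X.C (X.nat (ev X.el w)) (X.dec b))) =
      (state w).1 := by
    rw [(state_fst w).1]
    refine List.map_congr_left fun b hb => ?_
    have hb' : b < 4096 := by
      simp only [List.mem_cons, List.not_mem_nil, or_false] at hb; omega
    have h := X.app_wmap w hb'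
    rw [X.nat_ev, h.1, X.enc_dec h.2]
  rw [key, hl, hd, wkey]
  rfl

theorem key_injective : Function.Injective X.key := by
  intro g h e
  have hdig : ∀ (a b c d e f a' b' c' d' e' f' p q : ℕ),
      a < 4096 → b < 4096 → c < 4096 → d < 4096 → e < 4096 → f < 4096 →
      a' < 4096 → b' < 4096 → c' < 4096 → d' < 4096 → e' < 4096 → f' < 4096 → p < 4 → q < 4 →
      keyOf ([a, b, c, d, e, f], rep 0, p) = keyOf ([a', b', c', d', e', f'], rep 0, q) →
      [a, b, c, d, e, f] = [a', b', c', d', e', f'] ∧ p = q := by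
    intro a b c d e f a' b' c' d' e' f' p q ha hb hc' hd he hf ha' hb' hc'' hd' he' hf' hp hq h
    simp only [keyOf, List.foldl_cons, List.foldl_nil, Nat.add_eq, Nat.mul_eq] at h
    refine ⟨?_, by omega⟩
    simp only [List.cons.injEq, and_true]
    omega
  have hlt : ∀ z, dcode z < 4 := fun z => (kv_surjective z).choose_spec.1
  simp only [key, List.map_cons, List.map_nil] at e
  obtain ⟨hl, hd⟩ := hdig _ _ _ _ _ _ _ _ _ _ _ _ _ _ (X.enc_lt _) (X.enc_lt _) (X.enc_lt _)
    (X.enc_lt _) (X.enc_lt _) (X.enc_lt _) (X.enc_lt _) (X.enc_lt _) (X.enc_lt _) (X.enc_lt _)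
    (X.enc_lt _) (X.enc_lt _) (hlt _) (hlt _) e
  simp only [List.cons.injEq, and_true] at hl
  refine X.cover_ext (X.ext_bas fun i hi => ?_) ?_
  · obtain ⟨h0, h1, h2, h3, h4, h5⟩ := hl
    have conv : ∀ {b : ℕ}, X.enc (app X.C (X.nat g) (X.dec b)) = X.enc (app X.C (X.nat h) (X.dec b)) →
        app X.C (X.nat g) (X.dec b) = app X.C (X.nat h) (X.dec b) := fun {b} hb => by
      rw [← X.dec_enc (app X.C (X.nat g) _), hb, X.dec_enc]
    interval_cases i
    exacts [conv h0, conv h1, conv h2, conv h3, conv h4, conv h5]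
  · rw [← (kv_surjective (X.f0 g)).choose_spec.2, ← (kv_surjective (X.f0 h)).choose_spec.2]
    exact congrArg kv hd

theorem ev_eq_of_weq {u v : List ℕ} (h : weq u v = true) : ev X.el u = ev X.el v :=
  X.key_injective (by rw [X.key_ev, X.key_ev]; exact Nat.eq_of_beq_eq_true h)

theorem weq_of_ev_eq {u v : List ℕ} (h : ev X.el u = ev X.el v) : weq u v = true := by
  unfold weq
  rw [← X.key_ev, ← X.key_ev, h]
  exact Nat.beq_refl _

end Ctx

end CfsgLib.USixMult
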